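import Groth.Agent.AlgSp.K638.RedEt
import Groth.Agent.AlgSp.K609.Points
import Groth.Agent.AlgSp.K613.Chart

/-!
# Base changes of charts along morphisms of schemes; reducedness of charts
-/

set_option autoImplicit false
universe u

open CategoryTheory CategoryTheory.Limits AlgebraicGeometry Opposite

namespace K638.RedSp

open AlgSp K613.Basic K613.Cover K613.Chart

variable {S : Scheme.{u}} {F G H P X X' Y : Sp S}

/-- The base change of a chart of `X` along `X' = X ×_T T'`. -/
theorem exists_bc_chart {T T' U : Over S} {s : X ⟶ (yon S).obj T} {γ : T' ⟶ T} {fst : X' ⟶ X}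
    {snd : X' ⟶ (yon S).obj T'} (sq : IsPullback fst snd s ((yon S).map γ)) (p : (yon S).obj U ⟶ X) {α : U ⟶ T}
    (hα : p ≫ s = (yon S).map α) :
    ∃ (U' : Over S) (a : U' ⟶ U) (b : U' ⟶ T') (p' : (yon S).obj U' ⟶ X'), IsPullback a b α γ ∧
      IsPullback p' ((yon S).map a) fst p ∧ p' ≫ snd = (yon S).map b := by
  have h1 : IsPullback (pullback.fst α γ) (pullback.snd α γ) α γ := IsPullback.of_hasPullback _ _
  have h2 := h1.map (yon S)
  rw [← hα] at h2
  have w0 : ((yon S).map (pullback.fst α γ) ≫ p) ≫ s = (yon S).map (pullback.snd α γ) ≫ (yon S).map γ := by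
    rw [Category.assoc]; exact h2.w
  refine ⟨pullback α γ, pullback.fst α γ, pullback.snd α γ, sq.lift _ _ w0, h1, ?_, sq.lift_snd _ _ _⟩
  exact (IsPullback.of_bot (h₁₁ := (yon S).map (pullback.fst α γ)) (v₁₂ := p) (by rw [sq.lift_snd]; exact h2)
    (sq.lift_fst _ _ _).symm sq).flip

/-- If a sheaf is reduced etale locally then so is every scheme etale over it. -/
theorem isReduced_of_etaleLocally (h : EtaleLocally (fun U => IsReduced U) F) {U : Over S} {p : (yon S).obj U ⟶ F}
    (hp : RepWith @Etale p) : IsReduced U.left := by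
  obtain ⟨W, w, hw1, hw2, hW⟩ := h
  obtain ⟨V, snd, fst, sq⟩ := hw1.1 p
  obtain ⟨fst, rfl⟩ := (yon S).map_surjective fst
  have h1 : Etale snd.left := hw1.2 _ _ _ sq
  have h2 : Surjective snd.left := hw2.2 _ _ _ sq
  have h3 : Etale fst.left := hp.2 _ _ _ sq.flip
  have h4 : IsReduced V.left := RedEt.isReduced_of_etale fst.left
  exact RedEt.isReduced_of_flat_surjective snd.left

/-- If the points of `F` are covered by a family of reduced schemes etale over it, every scheme etale over `F` is
reduced. -/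
theorem isReduced_of_points {U : Over S} {p : (yon S).obj U ⟶ F} (hp : RepWith @Etale p)
    (h : ∀ u : U.left, ∃ (Z : Over S) (q : (yon S).obj Z ⟶ F) (z : Z.left), RepWith @Etale q ∧ IsReduced Z.left ∧
      Points.ofPt q z = Points.ofPt p u) : IsReduced U.left := by
  refine Groth.Agent.S0438.isReduced_of_flat_cover fun u => ?_
  obtain ⟨Z, q, z, hq, hZ, e⟩ := h u
  obtain ⟨V, snd, fst, sq⟩ := hq.1 p
  obtain ⟨fst, rfl⟩ := (yon S).map_surjective fst
  have h1 : Etale snd.left := hq.2 _ _ _ sq
  have h3 : Etale fst.left := hp.2 _ _ _ sq.flip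
  have h4 : IsReduced V.left := RedEt.isReduced_of_etale fst.left
  obtain ⟨r, hr1, hr2⟩ := (K609.Points.ofPt_eq_ofPt_iff sq z u).1 e
  exact ⟨V.left, snd.left, r, hr2, inferInstance, h4⟩

end K638.RedSp
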