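import Groth.Agent.S2567
import Groth.Agent.S0438
import Groth.Agent.Flat2B.SmoothGeom
import Mathlib.AlgebraicGeometry.Morphisms.Etale
import Mathlib.AlgebraicGeometry.Morphisms.Descent

/-!
# Reducedness and etale morphisms of schemes
-/

set_option autoImplicit false
universe u

open CategoryTheory CategoryTheory.Limits AlgebraicGeometry Opposite

namespace K638.RedEt

/-- The source of an etale morphism with reduced target is reduced. -/
theorem isReduced_of_etale {X Y : Scheme.{u}} (f : X ⟶ Y) [Etale f] [IsReduced Y] : IsReduced X := by
  have : ∀ x : X, _root_.IsReduced (X.presheaf.stalk x) := by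
    intro x
    refine Groth.Agent.S2567.result f x (inferInstanceAs (_root_.IsReduced (Y.presheaf.stalk _))) ?_
    intro K _ _ x' _
    have h1 : Etale (FBase.bcStr (f.fiberToSpecResidueField (f.base x)) K) := by
      have : Etale (f.fiberToSpecResidueField (f.base x)) :=
        MorphismProperty.pullback_snd (P := @Etale) _ _ ‹_›
      exact MorphismProperty.pullback_snd (P := @Etale) _ _ this
    have h2 : IsReduced (FBase.bc (f.fiberToSpecResidueField (f.base x)) K) :=
      Groth.Agent.Flat2B.SmoothGeom.isReduced_of_smooth (FBase.bcStr (f.fiberToSpecResidueField (f.base x)) K)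
    infer_instance
  exact isReduced_of_isReduced_stalk X

/-- Reducedness descends along surjective flat morphisms. -/
theorem isReduced_of_flat_surjective {X Y : Scheme.{u}} (f : X ⟶ Y) [Flat f] [Surjective f] [IsReduced X] :
    IsReduced Y :=
  Groth.Agent.S0438.isReduced_of_flat_cover fun y => by
    obtain ⟨x, hx⟩ := f.surjective y
    exact ⟨X, f, x, hx, inferInstance, inferInstance⟩

end K638.RedEt
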