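import Groth.Agent.AlgSp.K638.SplitFin

/-!
# S10676 and S10677 from the statement `LqfSch` of S10259
-/

set_option autoImplicit false
universe u
open CategoryTheory CategoryTheory.Limits AlgebraicGeometry TopologicalSpace Topology Opposite

namespace K638.SplitThm

open AlgSp K638.QfNhd

variable {S : Scheme.{u}}

/-- An affine chart through a given point. -/
theorem exists_affine_chart {X : Sp S} (hX : IsAlgSpace X) (x : Points X) :
    ∃ (U : Over S) (a : (yon S).obj U ⟶ X) (u : ↥U.left), RepWith @Etale a ∧ IsAffine U.left ∧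
      Points.ofPt a u = x := by
  obtain ⟨U, a, u, ha, -, rfl⟩ := K618.FieldFib.exists_chart_point hX x
  obtain ⟨W, hW, hu', -⟩ := exists_isAffineOpen_mem_and_subset (x := u) (U := ⊤) trivial
  let V : Over S := Over.mk (W.ι ≫ U.hom)
  let j : V ⟶ U := Over.homMk W.ι rfl
  refine ⟨V, (yon S).map j ≫ a, (⟨u, hu'⟩ : W), K618.FieldFib.repWith_etale_restrict ha W, hW, ?_⟩
  rw [K610.Base.ofPt_map_comp]
  rfl

theorem isEtaleMor_of_repWith {F G : Sp S} {f : F ⟶ G} (hf : RepWith @Etale f) : IsEtaleMor f :=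
  fun _ _ hφ => K597.etale_comp hφ hf

theorem splits (H : LqfSch S) {X Y : AlgSp.Space S} (f : X ⟶ Y) (y : AlgSp.Points Y.obj)
    (xs : Finset (AlgSp.Points X.obj)) (hxs : ∀ x ∈ xs, AlgSp.Points.map f.hom x = y)
    (hf1 : AlgSp.LocP @LocallyOfFiniteType f.hom) (hf2 : AlgSp.IsSeparatedMor f.hom)
    (hf3 : ∀ x ∈ xs, AlgSp.HasAtMor (fun U _ h u => ∃ W : U.Opens, u ∈ W ∧ LocallyQuasiFinite (W.ι ≫ h) ∧ LocallyOfFiniteType (W.ι ≫ h)) f.hom x)
    (hf4 : AlgSp.IsQuasiCompactMor f.hom ∨ AlgSp.IsDecent Y.obj) :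
    ∃ (U : AlgSp.Space S) (a : U ⟶ Y) (u : AlgSp.Points U.obj), AlgSp.IsEtaleMor a.hom ∧ AlgSp.Points.map a.hom u = y ∧
      ∀ (P : AlgSp.Space S) (prX : P ⟶ X) (prU : P ⟶ U), IsPullback prX.hom prU.hom f.hom a.hom →
        ∃ (V : AlgSp.Space S) (jV : V ⟶ P), AlgSp.RepWith @IsOpenImmersion jV.hom ∧ AlgSp.RepWith @IsClosedImmersion jV.hom ∧
          AlgSp.IsFiniteMor (jV ≫ prU).hom ∧
          (∀ v : AlgSp.Points V.obj, AlgSp.Points.map (jV ≫ prU).hom v = u → AlgSp.Points.map (jV ≫ prX).hom v ∈ xs) ∧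
          ∀ w : AlgSp.Points P.obj, w ∉ Set.range (AlgSp.Points.map jV.hom) → AlgSp.Points.map prU.hom w = u →
            AlgSp.Points.map prX.hom w ∉ xs := by
  obtain ⟨Y₀, b, y₀, hb, hY₀, rfl⟩ := exists_affine_chart Y.property y
  have hfin : {x₀ : Points (pullback f.hom b) | Points.map (pullback.fst f.hom b) x₀ ∈ (xs : Set (Points X.obj)) ∧
      Points.map (pullback.snd f.hom b) x₀ = Points.ofScheme Y₀ y₀}.Finite := by
    rcases hf4 with h | h
    · exact K638.SplitFin.finite_of_quasiCompact H X.property Y.property hf2 hf1 h _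
        (fun x hx => hf3 x hx) hb y₀
    · exact (K638.SplitFin.finite_of_decent h (xs : Set (Points X.obj)) xs.finite_toSet hb).subset
        fun x hx => hx.1
  obtain ⟨U, g, u, hg, hu, h⟩ := K638.SplitCore.exists_split H X.property Y.property hf2 (xs : Set (Points X.obj))
    (fun x hx => hf3 x hx) hb y₀ hfin
  refine ⟨(ofScheme S).obj U, ⟨(yon S).map g ≫ b⟩, Points.ofScheme U u,
    isEtaleMor_of_repWith (K597.etale_comp (K597.etale_map g hg) hb), ?_, ?_⟩
  · change Points.map ((yon S).map g ≫ b) (Points.ofScheme U u) = _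
    rw [← Points.ofPt_eq_map_ofScheme, K610.Base.ofPt_map_comp, hu]
  · intro P prX prU sq
    obtain ⟨V, jV, h1, h2, h3, h4⟩ := h P.obj prX.hom prU.hom sq
    refine ⟨(ofScheme S).obj V, ⟨jV⟩, h1, h2, h3, ?_, ?_⟩
    · intro v hv
      change Points.map (jV ≫ prU.hom) v = _ at hv
      change Points.map (jV ≫ prX.hom) v ∈ _
      rw [Points.map_comp] at hv ⊢
      exact (h4 _ hv).1 ⟨v, rfl⟩
    · intro w hw hwu hwx
      exact hw ((h4 w hwu).2 hwx)

theorem splits_one (H : LqfSch S) {X Y : AlgSp.Space S} (f : X ⟶ Y) (x : AlgSp.Points X.obj)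
    (hf1 : AlgSp.LocP @LocallyOfFiniteType f.hom) (hf2 : AlgSp.IsSeparatedMor f.hom)
    (hf3 : AlgSp.HasAtMor (fun U _ h u => ∃ W : U.Opens, u ∈ W ∧ LocallyQuasiFinite (W.ι ≫ h) ∧ LocallyOfFiniteType (W.ι ≫ h)) f.hom x) :
    ∃ (U : AlgSp.Space S) (a : U ⟶ Y) (u : AlgSp.Points U.obj), AlgSp.IsEtaleMor a.hom ∧
      AlgSp.Points.map a.hom u = AlgSp.Points.map f.hom x ∧
      ∀ (P : AlgSp.Space S) (prX : P ⟶ X) (prU : P ⟶ U), IsPullback prX.hom prU.hom f.hom a.hom →
        ∃ (V : AlgSp.Space S) (jV : V ⟶ P), AlgSp.RepWith @IsOpenImmersion jV.hom ∧ AlgSp.RepWith @IsClosedImmersion jV.hom ∧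
          AlgSp.IsFiniteMor (jV ≫ prU).hom ∧
          ∃ v : AlgSp.Points V.obj, AlgSp.Points.map (jV ≫ prX).hom v = x ∧ AlgSp.Points.map (jV ≫ prU).hom v = u := by
  obtain ⟨Y₀, b, y₀, hb, hY₀, hy₀⟩ := exists_affine_chart Y.property (Points.map f.hom x)
  have sq : IsPullback (pullback.fst f.hom b) (pullback.snd f.hom b) f.hom b := IsPullback.of_hasPullback f.hom b
  obtain ⟨x₀, hx₀, hxy⟩ := K610.Base.exists_of_isPullback sq x (Points.ofScheme Y₀ y₀)
    (by rw [← Points.ofPt_eq_map_ofScheme, hy₀])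
  obtain ⟨U, g, u, hg, hu, h⟩ := K638.SplitCore.exists_split_points H X.property Y.property hf2 y₀ {x₀}
    (Set.finite_singleton _)
    (by rintro _ rfl; exact K638.SplitCore.mem_qfSet hf3 Y.property sq hb _ hx₀)
    (by rintro _ rfl; exact hxy)
  refine ⟨(ofScheme S).obj U, ⟨(yon S).map g ≫ b⟩, Points.ofScheme U u,
    isEtaleMor_of_repWith (K597.etale_comp (K597.etale_map g hg) hb), ?_, ?_⟩
  · change Points.map ((yon S).map g ≫ b) (Points.ofScheme U u) = _
    rw [← Points.ofPt_eq_map_ofScheme, K610.Base.ofPt_map_comp, hu, hy₀]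
  · intro P prX prU sqP
    let k : P.obj ⟶ pullback f.hom b := sq.lift prX.hom (prU.hom ≫ (yon S).map g) (by
      rw [sqP.w, Category.assoc])
    have hk1 : k ≫ pullback.fst f.hom b = prX.hom := sq.lift_fst _ _ _
    have hk2 : k ≫ pullback.snd f.hom b = prU.hom ≫ (yon S).map g := sq.lift_snd _ _ _
    obtain ⟨V, jV, h1, h2, h3, h4⟩ := h P.obj prX.hom prU.hom k sqP hk1 hk2
    have sqk : IsPullback k prU.hom (pullback.snd f.hom b) ((yon S).map g) := by
      refine IsPullback.of_right (h₁₂ := pullback.fst f.hom b) (v₁₃ := f.hom) (h₂₂ := b) ?_ hk2 sq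
      rw [hk1]
      exact sqP
    obtain ⟨w, hw1, hw2⟩ := K610.Base.exists_of_isPullback sqk x₀ (Points.ofScheme U u) (by
      refine hxy.trans ?_
      rw [← hu]
      exact (K609.Points.map_yon_map_ofScheme g u).symm)
    obtain ⟨v, hv⟩ := (h4 w hw2).2 hw1
    refine ⟨(ofScheme S).obj V, ⟨jV⟩, h1, h2, h3, v, ?_, ?_⟩
    · change Points.map (jV ≫ prX.hom) v = _
      rw [Points.map_comp, hv, ← hk1, Points.map_comp, hw1, hx₀]
    · change Points.map (jV ≫ prU.hom) v = _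
      rw [Points.map_comp, hv, hw2]

end K638.SplitThm
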