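import Groth.Agent.AlgSp.K638.QfNhd
import Groth.Prelude.Def_AlgSpMor6

/-!
# `LocPNear P f x` (a property `P`, étale local on source and target, holds on an open subspace through `x`)
read off on any one chart diagram through `x`

`locPNear_iff`: for a chart diagram `a ≫ f = h ≫ b` (`a`, `b` étale) and `u`,
`LocPNear P f (Points.ofPt a u) ↔ ∃ O ∋ u open, P (O.ι ≫ h.left)`.
-/

set_option autoImplicit false
universe u
open CategoryTheory CategoryTheory.Limits AlgebraicGeometry Opposite Topology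

namespace K638.LocNear

open AlgSp K638.QfNhd

variable {S : Scheme.{u}} {P : MorphismProperty Scheme.{u}}

theorem locPNear_of_chart (hP : K597.EtLoc P) {F G : Sp S} (hF : IsAlgSpace F) {f : F ⟶ G} {U V : Over S}
    {a : (yon S).obj U ⟶ F} {b : (yon S).obj V ⟶ G} {h : U ⟶ V} (ha : RepWith @Etale a) (hb : RepWith @Etale b)
    (comm : a ≫ f = (yon S).map h ≫ b) (hh : P h.left) (u : U.left) : LocPNear P f (Points.ofPt a u) := by
  have hO : IsOpen (Set.range (Points.ofPt a)) := (K609.Points.isOpenMap_ofPt ha).isOpen_range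
  set Q := K610.Sub.openPred (Set.range (Points.ofPt a)) with hQ
  have hι : RepWith @IsOpenImmersion Q.ι := K610.Sub.repWith_openPred hO
  have hr : Set.range (Points.map Q.ι) = Set.range (Points.ofPt a) := K610.Sub.range_openPred _
  have hm : Function.Injective (Points.map Q.ι) := (K610.OpenImm.isEmbedding_points hF
    (imm_of_open hι)).1.injective
  obtain ⟨a', ha'⟩ := K610.Factor.exists_lift_open hι a hr.ge
  have hbe : RepWith @Etale a' := K610.OpenImm.repWith_of_comp_mono (j := Q.ι) (by rw [ha']; exact ha)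
  refine ⟨Q.sub, Q.ι, hι, hr.ge ⟨u, rfl⟩, K597.locP_of_local hP _ fun U' c hc x => ?_⟩
  have hx : Points.ofPt (c ≫ Q.ι) x ∈ Set.range (Points.ofPt a) := by
    rw [← hr]
    exact ⟨Points.ofPt c x, rfl⟩
  obtain ⟨w, hw⟩ := hx
  obtain ⟨R, p, q, sq, hq⟩ := K597.exists_sq2 hbe c
  have hp : Etale p.left := K597.repWith_prop' hc sq
  have hx' : x ∈ Set.range q.left := by
    have : Points.ofPt c x = Points.ofPt a' w := by
      apply hm
      rw [← K610.Base.ofPt_comp, ← K610.Base.ofPt_comp, ha', hw]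
    obtain ⟨v, -, hv⟩ := K610.Base.exists_of_isPullback_yon sq (Points.ofPt ((yon S).map (𝟙 U)) w) x (by
      rw [← K610.Base.ofPt_comp, this]; simp)
    exact ⟨v, hv⟩
  exact ⟨U, V, R, a', b, h, p, q, hb, by rw [← Category.assoc, ha', comm], hh, sq.w, hp, hq, hx'⟩

/-- **The chart criterion** for `LocPNear`. -/
theorem locPNear_iff (hP : K597.EtLoc P) {F G : Sp S} (hF : IsAlgSpace F) {f : F ⟶ G} {U V : Over S}
    {a : (yon S).obj U ⟶ F} {b : (yon S).obj V ⟶ G} {h : U ⟶ V} (ha : RepWith @Etale a) (hb : RepWith @Etale b)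
    (comm : a ≫ f = (yon S).map h ≫ b) (u : U.left) :
    LocPNear P f (Points.ofPt a u) ↔ ∃ O : U.left.Opens, u ∈ O ∧ P (O.ι ≫ h.left) := by
  constructor
  · rintro ⟨W, j, hj, ⟨w, hw⟩, hloc⟩
    obtain ⟨W', j', a', sq, hi⟩ := K597.exists_sq hj a
    -- `sq : IsPullback j' (yon a') j a`
    obtain ⟨v, -, hv⟩ := K610.Base.exists_of_isPullback_yon sq w u hw
    have hi' : IsOpenImmersion a'.left := hi
    have he : RepWith @Etale j' := K597.repWith_bc' @Etale sq ha
    have h1 := hloc j' b (a' ≫ h) he hb (by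
      rw [← Category.assoc, sq.w, Category.assoc, comm, Functor.map_comp, Category.assoc])
    refine ⟨a'.left.opensRange, ⟨v, hv⟩, ?_⟩
    have e4 : a'.left.isoOpensRange.inv ≫ a'.left = a'.left.opensRange.ι :=
      Scheme.Hom.isoOpensRange_inv_comp _
    rw [← e4, Category.assoc]
    exact hP.precomp _ _ inferInstance h1
  · rintro ⟨O, hu, hO⟩
    let Uo : Over S := Over.mk (O.ι ≫ U.hom)
    let i : Uo ⟶ U := Over.homMk O.ι rfl
    have hi : Etale i.left := inferInstanceAs (Etale O.ι)
    have h1 := locPNear_of_chart hP hF (f := f) (a := (yon S).map i ≫ a) (b := b) (h := i ≫ h)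
      (K597.etale_comp (K597.etale_map i hi) ha) hb (by
        rw [Category.assoc, comm, Functor.map_comp, Category.assoc]) hO (⟨u, hu⟩ : O)
    rwa [K610.Base.ofPt_map_comp] at h1

end K638.LocNear
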