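import Groth.Agent.AlgSp.K638.KosScheme
import Groth.Agent.AlgSp.K638.LocNear
import Groth.Agent.AlgSp.K608.Comp

/-!
# The Koszul locus commutes with base change (algebraic spaces)
-/

set_option autoImplicit false
universe u
open CategoryTheory CategoryTheory.Limits AlgebraicGeometry

namespace K638.KosSp

open AlgSp K638.KosScheme K638.LocNear K616.Refine K616.Inv K616.BaseChange

variable {S : Scheme.{u}}

theorem near_iff_at {F G : Sp S} (hF : IsAlgSpace F) {f : F ⟶ G} {U V : Over S}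
    {a : (yon S).obj U ⟶ F} {b : (yon S).obj V ⟶ G} {h : U ⟶ V} (ha : RepWith @Etale a) (hb : RepWith @Etale b)
    (comm : a ≫ f = (yon S).map h ≫ b) (u : U.left) :
    LocPNear lci f (Points.ofPt a u) ↔ At h.left u := by
  rw [locPNear_iff K637.EtLocLci.etLoc_lci hF ha hb comm u]
  unfold At
  simp only [K637.EtLocLci.lci_iff]

theorem near_baseChange_iff {X Y Z X' Y' Z' : Sp S} (hXA : IsAlgSpace X) (hYA : IsAlgSpace Y) (hZA : IsAlgSpace Z)
    (hX'A : IsAlgSpace X') (hY'A : IsAlgSpace Y') (hZ'A : IsAlgSpace Z') {f : X ⟶ Y} {q : Y ⟶ Z} {g : Z' ⟶ Z}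
    {gY : Y' ⟶ Y} {q' : Y' ⟶ Z'} {gX : X' ⟶ X} {f' : X' ⟶ Y'} (hY : IsPullback gY q' q g)
    (hX : IsPullback gX f' f gY) (hp1 : LocP @Flat (f ≫ q)) (hp2 : LocP @LocallyOfFinitePresentation (f ≫ q))
    (hq1 : LocP @Flat q) (hq2 : LocP @LocallyOfFinitePresentation q) (x' : Points X') :
    LocPNear lci f' x' ↔ LocPNear lci f (Points.map gX x') := by
  obtain ⟨V, W, V', W', q₀, g₀, gV, q'₀, c, d, c', d', v', sq0, hc, hd, hc', hd', w1, w2, w3, w4, hv', -⟩ :=
    exists_cartesian_diagram hYA hZA hZ'A hY'A hY (Points.map f' x')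
  obtain ⟨U₁, a₁, h₁, u₁, ha₁, e1, hu₁, hhu₁⟩ := exists_diagram_over hX'A f' c' hc' x' v' hv'
  have sqXV : IsPullback (pullback.fst f c) (pullback.snd f c) f c := IsPullback.of_hasPullback f c
  have hXV : IsAlgSpace (pullback f c) := K608.Comp.isAlgSpace_pullback f c hXA (IsAlgSpace.yon_obj V) hYA
  let m : (yon S).obj U₁ ⟶ pullback f c := pullback.lift (a₁ ≫ gX) ((yon S).map (h₁ ≫ gV)) (by
    rw [Category.assoc, hX.w, ← Category.assoc, e1, Functor.map_comp, Category.assoc, Category.assoc, w3])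
  have m1 : m ≫ pullback.fst f c = a₁ ≫ gX := pullback.lift_fst _ _ _
  have m2 : m ≫ pullback.snd f c = (yon S).map (h₁ ≫ gV) := pullback.lift_snd _ _ _
  obtain ⟨U, e, u, he, hu⟩ := exists_chart hXV (Points.ofPt m u₁)
  obtain ⟨U₂, t, k, sqt⟩ := he.rep m
  obtain ⟨k, rfl⟩ := (yon S).map_surjective k
  have ht : Etale t.left := he.property _ _ _ sqt
  obtain ⟨u₂, hku, htu⟩ := exists_pt_of_isPullback sqt u u₁ hu
  have hfst : RepWith @Etale (pullback.fst f c) := MorphismProperty.of_isPullback sqXV.flip hc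
  let a : (yon S).obj U ⟶ X := e ≫ pullback.fst f c
  have ha : RepWith @Etale a := MorphismProperty.comp_mem _ _ _ he hfst
  obtain ⟨h, hh⟩ := (yon S).map_surjective (e ≫ pullback.snd f c)
  have comm : a ≫ f = (yon S).map h ≫ c := by
    rw [hh, Category.assoc, Category.assoc, sqXV.w]
  have sq3 : IsPullback (pullback.fst h gV) (pullback.snd h gV) h gV := IsPullback.of_hasPullback h gV
  let a₃ : (yon S).obj (pullback h gV) ⟶ X' := hX.lift ((yon S).map (pullback.fst h gV) ≫ a)
    ((yon S).map (pullback.snd h gV) ≫ c') (by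
      rw [Category.assoc, comm, Category.assoc, w3, ← Category.assoc, ← Category.assoc, ← Functor.map_comp,
        ← Functor.map_comp, sq3.w])
  have a31 : a₃ ≫ gX = (yon S).map (pullback.fst h gV) ≫ a := hX.lift_fst _ _ _
  have a32 : a₃ ≫ f' = (yon S).map (pullback.snd h gV) ≫ c' := hX.lift_snd _ _ _
  have ha₃ : RepWith @Etale a₃ := etale_chart_pullback hX sq3 comm w3 ha hc hc' a₃ a31 a32
  -- the point
  have kh : k ≫ h = (t ≫ h₁) ≫ gV := by
    apply (yon S).map_injective
    rw [Functor.map_comp, hh, ← Category.assoc, sqt.w, Category.assoc, m2, ← Functor.map_comp, Category.assoc]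
  let ω : U₂ ⟶ pullback h gV := pullback.lift k (t ≫ h₁) kh
  have ω1 : ω ≫ pullback.fst h gV = k := pullback.lift_fst _ _ _
  have ω2 : ω ≫ pullback.snd h gV = t ≫ h₁ := pullback.lift_snd _ _ _
  have hω : (yon S).map ω ≫ a₃ = (yon S).map t ≫ a₁ := by
    apply hX.hom_ext
    · rw [Category.assoc, a31, ← Category.assoc, ← Functor.map_comp, ω1, Category.assoc, ← m1]
      change (yon S).map k ≫ e ≫ pullback.fst f c = _
      rw [← Category.assoc, sqt.w, Category.assoc]
    · rw [Category.assoc, a32, ← Category.assoc, ← Functor.map_comp, ω2, Category.assoc, e1, Functor.map_comp,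
        Category.assoc]
  let u₃ := ω.left u₂
  have hx' : Points.ofPt a₃ u₃ = x' := by
    rw [← K610.Base.ofPt_map_comp, hω, K610.Base.ofPt_map_comp, htu, hu₁]
  have hx : Points.ofPt a ((pullback.fst h gV).left u₃) = Points.map gX x' := by
    rw [← K610.Base.ofPt_map_comp, ← a31, K610.Base.ofPt_comp, hx']
  have r1 : LocPNear lci f' x' ↔ At (pullback.snd h gV).left u₃ := by
    rw [← near_iff_at hX'A ha₃ hc' a32 u₃, hx']
  have r2 : LocPNear lci f (Points.map gX x') ↔ At h.left ((pullback.fst h gV).left u₃) := by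
    rw [← near_iff_at hXA ha hc comm, hx]
  rw [r1, r2]
  have f1 : Flat q₀.left := hq1 _ _ _ hc hd w1
  have f2 : LocallyOfFinitePresentation q₀.left := hq2 _ _ _ hc hd w1
  have w5 : a ≫ f ≫ q = (yon S).map (h ≫ q₀) ≫ d := by
    rw [← Category.assoc, comm, Category.assoc, w1, Functor.map_comp, Category.assoc]
  have f3 : Flat (h.left ≫ q₀.left) := hp1 _ _ _ ha hd w5
  have f4 : LocallyOfFinitePresentation (h.left ≫ q₀.left) := hp2 _ _ _ ha hd w5
  have s1 : IsPullback gV.left q'₀.left q₀.left g₀.left := sq0.map (Over.forget S)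
  have s2 : IsPullback (pullback.fst h gV).left (pullback.snd h gV).left h.left gV.left := sq3.map (Over.forget S)
  exact at_baseChange_iff s1 s2 u₃

end K638.KosSp
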