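import Groth.Agent.AlgSp.K609.Points
import Groth.Agent.Fdesc.GeomAlgClosed
import Groth.Prelude.Def_AlgSpDec
import Mathlib.Topology.Connected.Clopen
import Mathlib.SetTheory.Cardinal.Finite
import Mathlib.AlgebraicGeometry.Geometrically.Connected

/-!
# Connected components after extension of an algebraically closed base field, for sheaves
-/

set_option autoImplicit false
universe u

open CategoryTheory CategoryTheory.Limits AlgebraicGeometry Opposite

namespace K638.GeomConn

open AlgSp K609.Points

variable {S : Scheme.{u}} {F G H P : Sp S}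

/-- A representable universally open, surjective morphism with geometrically connected fibres has connected fibres on
points. -/
theorem isConnected_fibre {π : F ⟶ G} (hπ : RepWith @GeometricallyConnected π) (x : Points G) :
    _root_.IsConnected (Points.map π ⁻¹' {x}) := by
  obtain ⟨K, _, str, g, hg⟩ := exists_field_ofPt x
  obtain ⟨V, snd, fst, sq⟩ := hπ.1 g
  have h1 : GeometricallyConnected snd.left := hπ.2 g fst snd sq
  let t : ↥(Over.mk str).left := IsLocalRing.closedPoint K
  have h2 : _root_.IsConnected (snd.left ⁻¹' {t}) := Scheme.Hom.isConnected_preimage_singleton _ t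
  have h3 : Points.map π ⁻¹' {x} = Points.ofPt fst '' (snd.left ⁻¹' {t}) := by
    ext y
    constructor
    · intro hy
      have hy' : Points.map π y = x := hy
      have e : Points.map π y = Points.map g (Points.ofScheme _ t) := by
        rw [hy', ← Points.ofPt_eq_map_ofScheme, hg]
      obtain ⟨p, hp1, hp2⟩ := exists_of_isPullback sq _ _ e
      obtain ⟨v, rfl⟩ := ofScheme_surjective V p
      rw [map_yon_map_ofScheme] at hp2
      exact ⟨v, ofScheme_injective _ hp2, by rw [Points.ofPt_eq_map_ofScheme, hp1]⟩
    · rintro ⟨v, hv, rfl⟩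
      change Points.map π (Points.ofPt fst v) = x
      rw [Points.map_ofPt, sq.w, ofPt_yon_map_comp]
      exact hg _
  rw [h3]
  exact h2.image _ (Points.continuous_ofPt _).continuousOn

theorem card_eq_of_repWith {π : F ⟶ G} (h1 : RepWith @UniversallyOpen π) (h2 : RepWith @Surjective π)
    (h3 : RepWith @GeometricallyConnected π) :
    ENat.card (ConnectedComponents (Points F)) = ENat.card (ConnectedComponents (Points G)) := by
  have hq : Topology.IsQuotientMap (Points.map π) :=
    (isOpenMap_map h1).isQuotientMap (Points.continuous_map π) (surjective_map_of_repWith_surjective h2)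
  exact ENat.card_congr (hq.isCoinducing.connectedComponentsHomeomorph (isConnected_fibre h3)).toEquiv

theorem card_eq {K Ω : Type u} [Field K] [IsAlgClosed K] [Field Ω] {strK : Spec (CommRingCat.of K) ⟶ S}
    {strΩ : Spec (CommRingCat.of Ω) ⟶ S} (φ : Over.mk strΩ ⟶ Over.mk strK) {b : G ⟶ (yon S).obj (Over.mk strK)}
    {π : F ⟶ G} {b' : F ⟶ (yon S).obj (Over.mk strΩ)} (sq : IsPullback π b' b ((yon S).map φ)) :
    ENat.card (ConnectedComponents (Points F)) = ENat.card (ConnectedComponents (Points G)) := by
  have : IsIntegral (Over.mk strK).left := inferInstanceAs (IsIntegral (Spec (CommRingCat.of K)))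
  have : Subsingleton ↥(Over.mk strK).left := inferInstanceAs (Subsingleton (PrimeSpectrum K))
  have : Nonempty ↥(Over.mk strΩ).left := inferInstanceAs (Nonempty (PrimeSpectrum Ω))
  have : ConnectedSpace ↥(Over.mk strΩ).left := inferInstanceAs (ConnectedSpace (PrimeSpectrum Ω))
  have h1 : UniversallyOpen φ.left := inferInstance
  have h2 : Surjective φ.left := ⟨fun y => ⟨Classical.arbitrary _, Subsingleton.elim _ _⟩⟩
  have h3 : GeometricallyConnected φ.left :=
    Groth.Agent.Fdesc.GeomAlgClosed.geometricallyConnected_of_connectedSpace (k := K) φ.left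
  exact card_eq_of_repWith (MorphismProperty.of_isPullback sq.flip ((repWith_yon_map_iff _ _).2 h1))
    (MorphismProperty.of_isPullback sq.flip ((repWith_yon_map_iff _ _).2 h2))
    (MorphismProperty.of_isPullback sq.flip ((repWith_yon_map_iff _ _).2 h3))

/-- Precomposition of the morphism of a field-valued point. -/
theorem map_toHom {p : FieldPt F} {T : Over S} (a : T ⟶ p.pt) :
    (yon S).map a ≫ p.toHom = (J S).uliftYonedaEquiv.symm (F.obj.map a.op p.val) := by
  apply (J S).uliftYonedaEquiv.injective
  rw [Equiv.apply_symm_apply]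
  exact (GrothendieckTopology.uliftYonedaEquiv_naturality'.{u + 1} (J := J S) _ a.op).symm.trans
    (by rw [FieldPt.uliftYonedaEquiv_toHom])

theorem exists_common (g : F ⟶ G) (p : FieldPt G) (q : FieldPt F) (h : Points.mk p = Points.map g (Points.mk q)) :
    ∃ (Ω : Type u) (_ : Field Ω) (w : Spec (CommRingCat.of Ω) ⟶ S) (α : Over.mk w ⟶ p.pt) (β : Over.mk w ⟶ q.pt),
      (yon S).map α ≫ p.toHom = (yon S).map β ≫ q.toHom ≫ g := by
  rw [Points.map_mk, Points.mk_eq_mk_iff] at h
  obtain ⟨Ω, i, w, α, β, e⟩ := h
  refine ⟨Ω, i, w, α, β, ?_⟩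
  rw [map_toHom, e, ← Category.assoc, map_toHom (F := F)]
  exact (map_toHom (F := G) (p := q.map g) β).symm.trans (by rw [FieldPt.toHom_map]; exact (Category.assoc _ _ _).symm.trans (congrArg (· ≫ g) (map_toHom (F := F) (p := q) β)))

end K638.GeomConn
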