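import Groth.Agent.Flat2G.SliceOpen
import Groth.Agent.Flat2H.LCIPoint
import Groth.Agent.Flat2H.KoszulDescent
import Groth.Agent.Flat2H.KoszulNoeth
import Groth.Agent.Models.KoszulBC2

/-!
# Koszul-regular ideals with flat quotient over a base: the fibre criterion at a point

`R → P` of finite presentation, `I ≤ q ⊂ P` a finitely generated ideal, `P` and `P/I` flat over `R` at `q`.  If the image
of `I` in the local ring of the fibre at `q` is generated by a Koszul-regular sequence then so is `I` near `q`.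
-/

set_option autoImplicit false
universe u

namespace K638.KosAlg

open IsLocalRing RingTheory.Sequence LCI
open Groth.Agent.Flat2G.SliceSeq Groth.Agent.Flat2G.SliceOpen
open Groth.Agent.Flat2H.KoszulIdeal

section Units

variable {B : Type u} [CommRing B]

theorem regMod_of_units {l m : List B} (h : List.Forall₂ (fun a x => ∃ u : Bˣ, a = x * (u : B)) l m) :
    ∀ J : Ideal B, RegMod J m → RegMod J l := by
  induction h with
  | nil => exact fun _ h => h
  | @cons a x l m hax _ ih =>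
    obtain ⟨u, rfl⟩ := hax
    rintro J ⟨h1, h2⟩
    refine ⟨fun b hb => ?_, ?_⟩
    · have h3 : x * (u * b) ∈ J := by rwa [← mul_assoc]
      have h4 := h1 _ h3
      have h5 := J.mul_mem_left ((u⁻¹ : Bˣ) : B) h4
      rwa [← mul_assoc, Units.inv_mul, one_mul] at h5
    · have : Ideal.span {x * (u : B)} = Ideal.span {x} := Ideal.span_singleton_mul_right_unit u.isUnit x
      rw [this]
      exact ih _ h2

theorem ofList_of_units {l m : List B} (h : List.Forall₂ (fun a x => ∃ u : Bˣ, a = x * (u : B)) l m) :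
    Ideal.ofList l = Ideal.ofList m := by
  induction h with
  | nil => rfl
  | @cons a x l m hax _ ih =>
    obtain ⟨u, rfl⟩ := hax
    rw [Ideal.ofList_cons, Ideal.ofList_cons, ih, Ideal.span_singleton_mul_right_unit u.isUnit x]

end Units

section Lift

variable {P Pq : Type u} [CommRing P] [CommRing Pq] [Algebra P Pq] (q : Ideal P) [q.IsPrime]
  [IsLocalization.AtPrime Pq q] (I : Ideal P) (J : Ideal Pq)

include q

/-- An element of the image of `I` in `Pq/J` is, up to a unit, the image of an element of `I`. -/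
theorem exists_lift_one (x : Pq ⧸ J) (hx : x ∈ (I.map (algebraMap P Pq)).map (Ideal.Quotient.mk J)) :
    ∃ a ∈ I, ∃ u : (Pq ⧸ J)ˣ, Ideal.Quotient.mk J (algebraMap P Pq a) = x * u := by
  obtain ⟨y, hy, rfl⟩ := (Ideal.mem_map_iff_of_surjective _ Ideal.Quotient.mk_surjective).1 hx
  obtain ⟨⟨⟨a, ha⟩, s⟩, h⟩ := (IsLocalization.mem_map_algebraMap_iff q.primeCompl Pq).1 hy
  have hs : IsUnit (algebraMap P Pq s) := IsLocalization.map_units Pq s
  refine ⟨a, ha, (hs.map (Ideal.Quotient.mk J)).unit, ?_⟩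
  change _ = Ideal.Quotient.mk J y * Ideal.Quotient.mk J (algebraMap P Pq s)
  rw [← map_mul]
  exact congrArg _ h.symm

theorem exists_lift (m : List (Pq ⧸ J))
    (hm : ∀ x ∈ m, x ∈ (I.map (algebraMap P Pq)).map (Ideal.Quotient.mk J)) :
    ∃ l : List P, (∀ a ∈ l, a ∈ I) ∧ List.Forall₂ (fun a x => ∃ u : (Pq ⧸ J)ˣ, a = x * (u : Pq ⧸ J))
      (l.map fun a => Ideal.Quotient.mk J (algebraMap P Pq a)) m := by
  induction m with
  | nil => exact ⟨[], by simp, by simp⟩
  | cons x m ih =>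
    obtain ⟨l, hl, h⟩ := ih fun y hy => hm y (List.mem_cons_of_mem _ hy)
    obtain ⟨a, ha, hax⟩ := exists_lift_one q I J x (hm x List.mem_cons_self)
    refine ⟨a :: l, ?_, ?_⟩
    · rintro b hb
      rcases List.mem_cons.1 hb with rfl | hb
      · exact ha
      · exact hl b hb
    · rw [List.map_cons]
      exact List.Forall₂.cons hax h

end Lift

/-- If `K` is finitely generated and `K Pq ≤ K' Pq` then this holds on a neighbourhood. -/
theorem exists_away_le {P : Type u} [CommRing P] (q : Ideal P) [q.IsPrime] (Pq : Type u) [CommRing Pq] [Algebra P Pq]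
    [IsLocalization.AtPrime Pq q] (K K' : Ideal P) (hK : K.FG)
    (h : K.map (algebraMap P Pq) ≤ K'.map (algebraMap P Pq)) :
    ∃ g : P, g ∉ q ∧ ∀ (T : Type u) [CommRing T] [Algebra P T], IsUnit (algebraMap P T g) →
      K.map (algebraMap P T) ≤ K'.map (algebraMap P T) := by
  obtain ⟨s, rfl⟩ := hK
  have h1 : ∀ x ∈ s, ∃ g : P, g ∉ q ∧ g * x ∈ K' := by
    intro x hx
    have h2 : algebraMap P Pq x ∈ K'.map (algebraMap P Pq) :=
      h (Ideal.mem_map_of_mem _ (Ideal.subset_span hx))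
    obtain ⟨⟨⟨a, ha⟩, t⟩, h3⟩ := (IsLocalization.mem_map_algebraMap_iff q.primeCompl Pq).1 h2
    rw [← map_mul] at h3
    obtain ⟨c, hc⟩ := (IsLocalization.eq_iff_exists q.primeCompl Pq).1 h3
    refine ⟨c * t, q.primeCompl.mul_mem c.2 t.2, ?_⟩
    have h4 : (c : P) * t * x = c * (x * t) := by ring
    rw [h4, hc]
    exact K'.mul_mem_left _ ha
  choose! g hg hgx using h1
  refine ⟨∏ x ∈ s, g x, ?_, ?_⟩
  · intro hq
    obtain ⟨x, hx, hxq⟩ := (Ideal.IsPrime.prod_mem_iff (hp := inferInstance)).1 hq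
    exact hg x hx hxq
  · intro T _ _ hT
    rw [Ideal.map_span, Ideal.span_le]
    rintro _ ⟨x, hx, rfl⟩
    have hu : IsUnit (algebraMap P T (g x)) := by
      rw [map_prod] at hT
      exact isUnit_of_dvd_unit (Finset.dvd_prod_of_mem (fun x => algebraMap P T (g x)) hx) hT
    have h5 := Ideal.mem_map_of_mem (algebraMap P T) (hgx x hx)
    rw [map_mul] at h5
    exact (Ideal.unit_mul_mem_iff_mem _ hu).1 h5

section Nak

variable {Rp Pq : Type u} [CommRing Rp] [CommRing Pq] [Algebra Rp Pq]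

/-- elements of `m Pq` -/
theorem exists_sum_of_mem_map (m : Ideal Rp) (x : Pq) (hx : x ∈ m.map (algebraMap Rp Pq)) :
    ∃ (n : ℕ) (f : Fin n → Rp) (y : Fin n → Pq), (∀ i, f i ∈ m) ∧ x = ∑ i, f i • y i := by
  induction hx using Submodule.span_induction with
  | mem x hx =>
    obtain ⟨a, ha, rfl⟩ := hx
    exact ⟨1, fun _ => a, fun _ => 1, fun _ => ha, by simp [Algebra.smul_def]⟩
  | zero => exact ⟨0, Fin.elim0, Fin.elim0, fun i => i.elim0, by simp⟩
  | add x y _ _ hx hy =>
    obtain ⟨n, f, y, hf, rfl⟩ := hx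
    obtain ⟨n', f', y', hf', rfl⟩ := hy
    refine ⟨n + n', Fin.append f f', Fin.append y y', fun i => ?_, ?_⟩
    · induction i using Fin.addCases <;> simp [hf, hf']
    · rw [Fin.sum_univ_add]
      simp
  | smul a x _ hx =>
    obtain ⟨n, f, y, hf, rfl⟩ := hx
    refine ⟨n, f, fun i => a * y i, hf, ?_⟩
    rw [smul_eq_mul, Finset.mul_sum]
    refine Finset.sum_congr rfl fun i _ => ?_
    rw [Algebra.smul_def, Algebra.smul_def]
    ring

/-- `K ∩ m Pq ≤ m K` when `Pq / K` is flat. -/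
theorem inf_le_mul (m : Ideal Rp) (K : Ideal Pq) [Module.Flat Rp (Pq ⧸ K)] :
    K ⊓ m.map (algebraMap Rp Pq) ≤ m.map (algebraMap Rp Pq) * K := by
  rintro x ⟨hxK, hx⟩
  obtain ⟨n, f, y, hf, rfl⟩ := exists_sum_of_mem_map m x hx
  have h0 : ∑ i, f i • (Ideal.Quotient.mk K (y i)) = 0 := by
    have := Ideal.Quotient.eq_zero_iff_mem.2 hxK
    rw [map_sum] at this
    rw [← this]
    refine Finset.sum_congr rfl fun i _ => ?_
    rw [Algebra.smul_def, Algebra.smul_def, map_mul]
    rfl
  obtain ⟨k, a, z, hz, ha⟩ := Module.Flat.isTrivialRelation_of_sum_smul_eq_zero h0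
  choose z' hz' using fun j => Ideal.Quotient.mk_surjective (z j)
  have hk : ∀ i, y i - ∑ j, a i j • z' j ∈ K := by
    intro i
    rw [← Ideal.Quotient.eq_zero_iff_mem, map_sub, show Ideal.Quotient.mk K (y i) = ∑ j, a i j • z j from hz i,
      map_sum, sub_eq_zero]
    refine Finset.sum_congr rfl fun j _ => ?_
    rw [← hz' j, Algebra.smul_def, Algebra.smul_def, map_mul]
    rfl
  have h1 : ∑ i, f i • y i = ∑ i, f i • (y i - ∑ j, a i j • z' j) := by
    have h2 : ∑ i, f i • (∑ j, a i j • z' j) = 0 := by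
      simp_rw [Finset.smul_sum, smul_smul]
      rw [Finset.sum_comm]
      refine Finset.sum_eq_zero fun j _ => ?_
      rw [← Finset.sum_smul, ha j, zero_smul]
    simp_rw [smul_sub]
    rw [Finset.sum_sub_distrib, h2, sub_zero]
  rw [h1]
  refine Ideal.sum_mem _ fun i _ => ?_
  rw [Algebra.smul_def]
  exact Ideal.mul_mem_mul (Ideal.mem_map_of_mem _ (hf i)) (hk i)

theorem le_of_fibre [IsLocalRing Rp] [IsLocalRing Pq] [IsLocalHom (algebraMap Rp Pq)] (K K' : Ideal Pq) (hK : K.FG)
    [Module.Flat Rp (Pq ⧸ K)] (hle : K' ≤ K) (h : K ≤ K' ⊔ (maximalIdeal Rp).map (algebraMap Rp Pq)) :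
    K ≤ K' := by
  have h1 : K ≤ K' ⊔ (maximalIdeal Rp).map (algebraMap Rp Pq) * K := by
    intro x hx
    obtain ⟨a, ha, b, hb, rfl⟩ := Submodule.mem_sup.1 (h hx)
    have hbK : b ∈ K := by
      have := K.sub_mem hx (hle ha)
      rwa [add_sub_cancel_left] at this
    exact Submodule.add_mem_sup ha (inf_le_mul _ K ⟨hbK, hb⟩)
  have h2 : (maximalIdeal Rp).map (algebraMap Rp Pq) ≤ Ideal.jacobson ⊥ := by
    rw [IsLocalRing.jacobson_eq_maximalIdeal ⊥ bot_ne_top]
    exact ((IsLocalRing.local_hom_TFAE (algebraMap Rp Pq)).out 0 2).1 ‹_›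
  have h3 : K ≤ K' ⊔ (maximalIdeal Rp).map (algebraMap Rp Pq) • K := by
    rwa [smul_eq_mul]
  exact Submodule.le_of_le_smul_of_le_jacobson_bot hK h2 h3

end Nak

section Fibre

variable {R P Rp Pq : Type u} [CommRing R] [CommRing P] [CommRing Rp] [CommRing Pq]
    [IsLocalRing Rp] [IsLocalRing Pq]
    [Algebra R P] [Algebra.FinitePresentation R P] [Algebra R Rp] [Algebra P Pq]
    [Algebra Rp Pq] [Algebra R Pq] [IsScalarTower R Rp Pq] [IsScalarTower R P Pq]
    [IsLocalHom (algebraMap Rp Pq)]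
    (p : Ideal R) [p.IsPrime] (q : Ideal P) [q.IsPrime] (hpq : q.comap (algebraMap R P) = p)
    [IsLocalization.AtPrime Rp p] [IsLocalization.AtPrime Pq q]
    (I : Ideal P) (hI : I.FG) (hIq : I ≤ q)

include hpq hI hIq in
/-- The fibre criterion at a point. -/
theorem exists_genK_of_fibre (hP : Module.Flat Rp Pq) (hPI : Module.Flat Rp (Pq ⧸ I.map (algebraMap P Pq)))
    (J : Ideal Pq) (hJ : J = (maximalIdeal Rp).map (algebraMap Rp Pq))
    (m : List (Pq ⧸ J)) (hm : IsWeaklyRegular (Pq ⧸ J) m)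
    (hmI : (I.map (algebraMap P Pq)).map (Ideal.Quotient.mk J) = Ideal.ofList m) :
    ∃ g : P, g ∉ q ∧ GenK (I.map (algebraMap P (Localization.Away g))) := by
  obtain ⟨l, hl, hlm⟩ := exists_lift q I J m fun x hx => by
    rw [hmI]
    exact Ideal.subset_span hx
  -- the list is regular on the fibre
  have h1 : RegMod (⊥ : Ideal (Pq ⧸ J)) (l.map fun a => Ideal.Quotient.mk J (algebraMap P Pq a)) :=
    regMod_of_units hlm ⊥ ((isWeaklyRegular_iff_regMod_bot m).1 hm)
  have h2 : RegMod J (l.map (algebraMap P Pq)) := by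
    rw [← isWeaklyRegular_map_mk_iff, List.map_map]
    exact (isWeaklyRegular_iff_regMod_bot _).2 h1
  -- it generates `I` at `q`
  have h3 : Ideal.ofList (l.map fun a => Ideal.Quotient.mk J (algebraMap P Pq a)) = Ideal.ofList m :=
    ofList_of_units hlm
  have hlI : Ideal.ofList l ≤ I := Ideal.span_le.2 hl
  have h4 : I.map (algebraMap P Pq) ≤ (Ideal.ofList l).map (algebraMap P Pq) := by
    refine le_of_fibre (Rp := Rp) _ _ (hI.map _) (Ideal.map_mono hlI) ?_
    rw [← hJ]
    have h5 : (I.map (algebraMap P Pq)).map (Ideal.Quotient.mk J) ≤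
        ((Ideal.ofList l).map (algebraMap P Pq)).map (Ideal.Quotient.mk J) := by
      rw [hmI, ← h3, Ideal.map_ofList, Ideal.map_ofList, List.map_map]
      exact le_rfl
    have h6 := Ideal.comap_mono (f := Ideal.Quotient.mk J) h5
    rw [Ideal.comap_map_of_surjective' _ Ideal.Quotient.mk_surjective,
      Ideal.comap_map_of_surjective' _ Ideal.Quotient.mk_surjective, Ideal.mk_ker] at h6
    exact le_sup_left.trans h6
  obtain ⟨g₁, hg₁, H₁⟩ := exists_away_le q Pq I (Ideal.ofList l) hI h4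
  have hbot : (⊥ : Ideal P).map (algebraMap P Pq) = ⊥ := Ideal.map_bot
  obtain ⟨g₂, hg₂, H₂⟩ := exists_away (R := R) (A := P) (Rp := Rp) (Aq := Pq) p q hpq l
    (fun h hh => hIq (hl h hh)) ⊥ Submodule.fg_bot bot_le (by
      rw [hbot]
      exact Module.Flat.of_linearEquiv (AlgEquiv.quotientBot Rp Pq).toLinearEquiv) (by
      rw [hbot, bot_sup_eq, ← hJ]
      exact h2)
  refine ⟨g₁ * g₂, q.primeCompl.mul_mem hg₁ hg₂, ?_⟩
  have hu : IsUnit (algebraMap P (Localization.Away (g₁ * g₂)) (g₁ * g₂)) :=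
    IsLocalization.Away.algebraMap_isUnit _
  rw [map_mul] at hu
  have hu1 := isUnit_of_mul_isUnit_left hu
  have hu2 := isUnit_of_mul_isUnit_right hu
  have h7 : I.map (algebraMap P (Localization.Away (g₁ * g₂))) =
      (Ideal.ofList l).map (algebraMap P (Localization.Away (g₁ * g₂))) :=
    le_antisymm (H₁ _ hu1) (Ideal.map_mono hlI)
  rw [h7]
  have h8 : IsWeaklyRegular (Localization.Away g₂) (l.map (algebraMap P (Localization.Away g₂))) := by
    rw [isWeaklyRegular_iff_regMod_bot]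
    have h9 := (H₂ (Localization.Away g₂)).regMod
    rwa [Ideal.map_bot] at h9
  refine GenK.map_of_isUnit g₂ (Localization.Away g₂) ?_ _ hu2
  refine ⟨_, Groth.Agent.Flat2H.KoszulBC.isKoszulRegularSeq_of_isWeaklyRegular h8, ?_⟩
  rw [Ideal.map_ofList]

end Fibre

end K638.KosAlg
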