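import Groth.Agent.AlgSp.K638.KosAlg
import Groth.Agent.LoccohB.GorDesc
import Groth.Agent.Ega4C.RegFlat
import Mathlib.RingTheory.LocalRing.ResidueField.Fiber

/-!
# Descent of "generated by a Koszul-regular sequence" along a base change, at a point
-/

set_option autoImplicit false
universe u

namespace K638.KosFib

open IsLocalRing RingTheory.Sequence LCI
open Groth.Agent.Flat2H.KoszulIdeal

theorem genK_of_isUnit_local {F : Type u} [CommRing F] [IsLocalRing F] {I : Ideal F} (h : IsKoszulRegularIdeal I) :
    GenK I := by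
  obtain ⟨g, hg, H⟩ := IsKoszulRegularIdeal.exists_genK h (maximalIdeal F)
  have hu : IsUnit g := by
    rwa [mem_maximalIdeal, mem_nonunits_iff, not_not] at hg
  have := H F (by simpa using hu)
  rwa [Algebra.algebraMap_self, Ideal.map_id] at this

/-- Descent along a field extension at a point. -/
theorem genK_of_fieldExt {k k' E E' : Type u} [Field k] [Field k'] [CommRing E] [CommRing E'] [Algebra k k']
    [Algebra k E] [Algebra k' E'] [Algebra E E'] [Algebra k E'] [IsScalarTower k k' E'] [IsScalarTower k E E']
    [Algebra.IsPushout k k' E E'] (Q' : Ideal E') [Q'.IsPrime] (Q : Ideal E) [Q.IsPrime]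
    (hQ : Q = Q'.comap (algebraMap E E')) (I : Ideal E)
    (h : GenK (I.map (algebraMap E (Localization.AtPrime Q')))) :
    GenK (I.map (algebraMap E (Localization.AtPrime Q))) := by
  have h1 : Algebra.IsPushout k E k' E' := Algebra.IsPushout.symm inferInstance
  have h2 : Module.Flat E E' := Module.Flat.isBaseChange k E k' E' h1.out
  have h3 : Q'.LiesOver Q := ⟨hQ⟩
  let a1 := Localization.AtPrime.algebraOfLiesOver Q Q'
  have h4 : IsLocalHom (algebraMap (Localization.AtPrime Q) (Localization.AtPrime Q')) := by
    rw [RingHom.algebraMap_toAlgebra]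
    exact Localization.isLocalHom_localRingHom Q Q' (algebraMap E E') Ideal.LiesOver.over
  have h5 : Module.Flat (Localization.AtPrime Q) (Localization.AtPrime Q') := inferInstance
  have h6 : Module.FaithfullyFlat (Localization.AtPrime Q) (Localization.AtPrime Q') :=
    Module.FaithfullyFlat.of_flat_of_isLocalHom
  refine genK_of_isUnit_local (Groth.Agent.Flat2H.KoszulDescent.IsKoszulRegularIdeal.of_faithfullyFlat
    (B := Localization.AtPrime Q') ?_)
  rw [Ideal.map_map, ← IsScalarTower.algebraMap_eq]
  exact h.isKoszulRegularIdeal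

/-- Base change to a fibre (or any base change), at a localization. -/
theorem genK_baseChange {R' k' P' E' : Type u} [CommRing R'] [CommRing k'] [CommRing P'] [CommRing E']
    [Algebra R' k'] [Algebra R' P'] [Algebra k' E'] [Algebra P' E'] [Algebra R' E'] [IsScalarTower R' k' E']
    [IsScalarTower R' P' E'] [Algebra.IsPushout R' k' P' E'] [Module.Flat R' P'] (I' : Ideal P')
    [Module.Flat R' (P' ⧸ I')] (g' : P') (h : GenK (I'.map (algebraMap P' (Localization.Away g'))))
    (T : Type u) [CommRing T] [Algebra E' T] [Module.Flat E' T] (hT : IsUnit (algebraMap E' T (algebraMap P' E' g'))) :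
    GenK ((I'.map (algebraMap P' E')).map (algebraMap E' T)) := by
  let Pg := Localization (Submonoid.powers g')
  let Eg := Localization (Algebra.algebraMapSubmonoid E' (Submonoid.powers g'))
  have hEg : IsLocalization.Away (algebraMap P' E' g') Eg := by
    have : Algebra.algebraMapSubmonoid E' (Submonoid.powers g') = Submonoid.powers (algebraMap P' E' g') :=
      Submonoid.map_powers _ _
    change IsLocalization (Submonoid.powers (algebraMap P' E' g')) Eg
    rw [← this]
    infer_instance
  have htow : IsScalarTower R' Pg Eg := IsScalarTower.of_algebraMap_eq fun x => by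
    rw [IsScalarTower.algebraMap_apply R' E' Eg, IsScalarTower.algebraMap_apply R' P' E',
      IsScalarTower.algebraMap_apply R' P' Pg, ← IsScalarTower.algebraMap_apply P' E' Eg,
      ← IsScalarTower.algebraMap_apply P' Pg Eg]
  have h1 : Algebra.IsPushout P' E' Pg Eg := Algebra.isPushout_of_isLocalization (Submonoid.powers g') Pg E' Eg
  have h1' : Algebra.IsPushout P' Pg E' Eg := h1.symm
  have h2 : Algebra.IsPushout R' P' k' E' := Algebra.IsPushout.symm inferInstance
  have h3 : Algebra.IsPushout R' Pg k' Eg := (Algebra.IsPushout.comp_iff R' P' k' (S' := E') (T := Pg) (T' := Eg)).2 h1'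
  have h4 : Algebra.IsPushout R' k' Pg Eg := h3.symm
  have h5 : Module.Flat R' Pg := Module.Flat.trans R' P' Pg
  obtain ⟨l, hl, hl'⟩ := h
  have h6 : Module.Flat R' (Pg ⧸ Ideal.ofList l) := by
    rw [← hl']
    exact Groth.Agent.Flat2G.SliceSeq.flat_map_of_flat I'
  have h7 := Groth.Agent.Models.KoszulBC2.isKoszulRegularSeq_map R' k' (P' := Eg) l hl
  have h8 : GenK ((I'.map (algebraMap P' E')).map (algebraMap E' Eg)) := by
    refine ⟨_, h7, ?_⟩
    rw [Ideal.map_map, ← IsScalarTower.algebraMap_eq, IsScalarTower.algebraMap_eq P' Pg Eg, ← Ideal.map_map]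
    change (I'.map (algebraMap P' (Localization.Away g'))).map (algebraMap Pg Eg) = _
    rw [hl', Ideal.map_ofList]
  exact h8.map_of_isUnit (algebraMap P' E' g') Eg T hT

section Iso

variable {R P : Type u} [CommRing R] [CommRing P] [Algebra R P]

attribute [local instance] Algebra.TensorProduct.rightAlgebra

/-- the kernel of `P → κ(p) ⊗ P` -/
theorem exists_mul_mem_of_eq_zero (p : Ideal R) [p.IsPrime] (c : P)
    (hc : (1 : p.ResidueField) ⊗ₜ[R] c = (0 : p.Fiber P)) :
    ∃ r : R, r ∉ p ∧ algebraMap R P r * c ∈ p.map (algebraMap R P) := by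
  have h1 : algebraMap P (p.Fiber P) c = 0 := hc
  have h2 := congrArg (Ideal.Fiber.algEquivAux₁ (S := P) p) h1
  rw [AlgEquiv.commutes, map_zero] at h2
  have h3 : algebraMap P (Localization (Algebra.algebraMapSubmonoid P p.primeCompl)) c ∈
      (p.map (algebraMap R P)).map (algebraMap P (Localization (Algebra.algebraMapSubmonoid P p.primeCompl))) :=
    Ideal.Quotient.eq_zero_iff_mem.1 h2
  obtain ⟨⟨⟨a, ha⟩, s⟩, h4⟩ := (IsLocalization.mem_map_algebraMap_iff
    (Algebra.algebraMapSubmonoid P p.primeCompl) _).1 h3
  rw [← map_mul] at h4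
  obtain ⟨⟨_, t, ht, rfl⟩, h5⟩ := (IsLocalization.eq_iff_exists
    (Algebra.algebraMapSubmonoid P p.primeCompl) _).1 h4
  obtain ⟨_, t', ht', rfl⟩ := s
  refine ⟨t * t', p.primeCompl.mul_mem ht ht', ?_⟩
  have h6 : algebraMap R P (t * t') * c = algebraMap R P t * (c * algebraMap R P t') := by
    rw [map_mul]; ring
  rw [h6]
  change algebraMap R P t * (c * algebraMap R P t') = algebraMap R P t * a at h5
  rw [h5]
  exact Ideal.mul_mem_left _ _ ha

/-- transport along a ring isomorphism -/
theorem genK_of_ringEquiv {A B : Type u} [CommRing A] [CommRing B] (e : A ≃+* B) {I : Ideal A} (h : GenK I) :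
    GenK (I.map (e : A →+* B)) := by
  let := (e : A →+* B).toAlgebra
  have : Module.Flat A B := RingHom.Flat.of_bijective (f := (e : A →+* B)) e.bijective
  exact h.map

theorem genK_quotient_of_fiber (p : Ideal R) [p.IsPrime] (q : Ideal P) [q.IsPrime] (Q : Ideal (p.Fiber P))
    [Q.IsPrime] (hQ : q = Q.comap ((Algebra.TensorProduct.includeRight : P →ₐ[R] p.Fiber P) : P →+* p.Fiber P))
    (I : Ideal P) (h : GenK ((I.map (algebraMap P (p.Fiber P))).map (algebraMap (p.Fiber P) (Localization.AtPrime Q)))) :
    GenK ((I.map (algebraMap P (Localization.AtPrime q))).map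
      (Ideal.Quotient.mk ((p.map (algebraMap R P)).map (algebraMap P (Localization.AtPrime q))))) ∧
    Nonempty ((Localization.AtPrime q ⧸ (p.map (algebraMap R P)).map (algebraMap P (Localization.AtPrime q))) ≃+*
      Localization.AtPrime Q) := by
  set π := Localization.localRingHom q Q
      ((Algebra.TensorProduct.includeRight : P →ₐ[R] p.Fiber P) : P →+* p.Fiber P) hQ with hπ
  have hs : Function.Surjective π := Groth.Agent.LoccohB.GorDesc.localRingHom_fiber_surjective p Q q hQ
  have hc : ∀ x : P, π (algebraMap P _ x) = algebraMap (p.Fiber P) _ (algebraMap P (p.Fiber P) x) := fun x =>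
    Localization.localRingHom_to_map _ _ _ _ _
  have hker : RingHom.ker π = (p.map (algebraMap R P)).map (algebraMap P (Localization.AtPrime q)) := by
    apply le_antisymm
    · intro x hx
      obtain ⟨b, s, rfl⟩ := IsLocalization.exists_mk'_eq q.primeCompl x
      have hb : algebraMap P (Localization.AtPrime q) b ∈ RingHom.ker π := by
        rw [← IsLocalization.mk'_spec (Localization.AtPrime q) b s]
        exact Ideal.mul_mem_right _ _ hx
      rw [RingHom.mem_ker, hc] at hb
      have h0 : algebraMap (p.Fiber P) (Localization.AtPrime Q) (algebraMap P (p.Fiber P) b) =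
        algebraMap (p.Fiber P) (Localization.AtPrime Q) 0 := by rw [hb, map_zero]
      obtain ⟨t, ht⟩ := (IsLocalization.eq_iff_exists Q.primeCompl (Localization.AtPrime Q)).1 h0
      rw [mul_zero] at ht
      obtain ⟨r, hr, s', hs'⟩ := Ideal.Fiber.exists_smul_eq_one_tmul (S := P) (p := p) (t : p.Fiber P)
      have hrQ : algebraMap R (p.Fiber P) r ∉ Q := by
        intro hrQ
        apply hr
        rw [Ideal.over_def Q p]
        exact hrQ
      have hs'Q : s' ∉ q := by
        intro h1
        rw [hQ] at h1
        change ((1 : p.ResidueField) ⊗ₜ[R] s' : p.Fiber P) ∈ Q at h1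
        rw [← hs', Algebra.smul_def] at h1
        rcases Ideal.IsPrime.mem_or_mem inferInstance h1 with h2 | h2
        · exact hrQ h2
        · exact t.2 h2
      have h1 : ((1 : p.ResidueField) ⊗ₜ[R] (s' * b) : p.Fiber P) = 0 := by
        have h2 : ((1 : p.ResidueField) ⊗ₜ[R] (s' * b) : p.Fiber P) =
            ((1 : p.ResidueField) ⊗ₜ[R] s' : p.Fiber P) * algebraMap P (p.Fiber P) b := by
          change _ = ((1 : p.ResidueField) ⊗ₜ[R] s' : p.Fiber P) * ((1 : p.ResidueField) ⊗ₜ[R] b)
          rw [Algebra.TensorProduct.tmul_mul_tmul, one_mul]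
        rw [h2, ← hs', smul_mul_assoc, ht, smul_zero]
      obtain ⟨r', hr', h2⟩ := exists_mul_mem_of_eq_zero p _ h1
      have h3 := Ideal.mem_map_of_mem (algebraMap P (Localization.AtPrime q)) h2
      have hr'q : algebraMap R P r' ∉ q := by
        intro h4
        apply hr'
        rw [Ideal.over_def Q p]
        rw [hQ] at h4
        change ((1 : p.ResidueField) ⊗ₜ[R] (algebraMap R P r') : p.Fiber P) ∈ Q at h4
        rwa [Algebra.algebraMap_eq_smul_one, TensorProduct.tmul_smul, Algebra.smul_def,
          show ((1 : p.ResidueField) ⊗ₜ[R] (1 : P) : p.Fiber P) = 1 from rfl, mul_one] at h4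
      rw [← mul_assoc, map_mul] at h3
      have hu : IsUnit (algebraMap P (Localization.AtPrime q) (algebraMap R P r' * s')) :=
        IsLocalization.map_units (Localization.AtPrime q)
          (⟨_, q.primeCompl.mul_mem hr'q hs'Q⟩ : q.primeCompl)
      have h5 := (Ideal.unit_mul_mem_iff_mem _ hu).1 h3
      rw [IsLocalization.mk'_eq_mul_mk'_one]
      exact Ideal.mul_mem_right _ _ h5
    · rw [Ideal.map_map, Ideal.map_le_iff_le_comap]
      intro r hr
      rw [Ideal.mem_comap, RingHom.mem_ker, RingHom.comp_apply, hc]
      have : algebraMap P (p.Fiber P) (algebraMap R P r) = 0 := by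
        change ((1 : p.ResidueField) ⊗ₜ[R] (algebraMap R P r) : p.Fiber P) = 0
        rw [Algebra.algebraMap_eq_smul_one, TensorProduct.tmul_smul, TensorProduct.smul_tmul',
          ← Algebra.algebraMap_eq_smul_one]
        rw [(Ideal.algebraMap_residueField_eq_zero).2 hr, TensorProduct.zero_tmul]
      rw [this, map_zero]
  let e : (Localization.AtPrime q ⧸ (p.map (algebraMap R P)).map (algebraMap P (Localization.AtPrime q))) ≃+*
      Localization.AtPrime Q := (Ideal.quotEquivOfEq hker.symm).trans (RingHom.quotientKerEquivOfSurjective hs)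
  have he : ∀ x, e (Ideal.Quotient.mk _ x) = π x := fun x => rfl
  have h1 := genK_of_ringEquiv e.symm h
  refine ⟨?_, ⟨e⟩⟩
  convert h1 using 1
  refine (Ideal.map_map _ _).trans (Eq.trans ?_
    (Eq.symm ((congrArg _ (Ideal.map_map _ _)).trans (Ideal.map_map _ _))))
  congr 1
  ext x
  change Ideal.Quotient.mk _ (algebraMap P _ x) = e.symm (algebraMap (p.Fiber P) _ (algebraMap P _ x))
  rw [← hc, ← he, RingEquiv.symm_apply_apply]

end Iso

section Main

attribute [local instance] Algebra.TensorProduct.rightAlgebra

theorem exists_genK_baseChange (R R' : Type u) {P P' : Type u} [CommRing R] [CommRing P] [CommRing R'] [CommRing P']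
    [Algebra R P] [Algebra R R'] [Algebra R' P'] [Algebra P P'] [Algebra R P'] [IsScalarTower R R' P']
    [IsScalarTower R P P'] [Algebra.IsPushout R R' P P'] [Module.Flat R P] (I : Ideal P) [Module.Flat R (P ⧸ I)]
    (q' : Ideal P') [q'.IsPrime] (g : P) (hg : g ∉ q'.comap (algebraMap P P'))
    (h : GenK (I.map (algebraMap P (Localization.Away g)))) :
    ∃ g' : P', g' ∉ q' ∧ GenK ((I.map (algebraMap P P')).map (algebraMap P' (Localization.Away g'))) :=
  ⟨algebraMap P P' g, hg, genK_baseChange (R' := R) (k' := R') I g h _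
    (IsLocalization.Away.algebraMap_isUnit _)⟩

/-- the fibre at `q` -/
theorem genK_fibre_of_baseChange (R R' : Type u) {P P' : Type u} [CommRing R] [CommRing P] [CommRing R'] [CommRing P']
    [Algebra R P] [Algebra R R'] [Algebra R' P'] [Algebra P P'] [Algebra R P'] [IsScalarTower R R' P']
    [IsScalarTower R P P'] [Algebra.IsPushout R R' P P'] [Module.Flat R P] (I : Ideal P) [Module.Flat R (P ⧸ I)]
    (q' : Ideal P') [q'.IsPrime] (g' : P') (hg' : g' ∉ q')
    (h : GenK ((I.map (algebraMap P P')).map (algebraMap P' (Localization.Away g'))))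
    (p : Ideal R) [p.IsPrime] (hp : p = (q'.comap (algebraMap P P')).comap (algebraMap R P)) :
    ∃ (Q : Ideal (p.Fiber P)) (_ : Q.IsPrime), q'.comap (algebraMap P P') =
      Q.comap ((Algebra.TensorProduct.includeRight : P →ₐ[R] p.Fiber P) : P →+* p.Fiber P) ∧
      GenK ((I.map (algebraMap P (p.Fiber P))).map (algebraMap (p.Fiber P) (Localization.AtPrime Q))) := by
  let p' : Ideal R' := q'.comap (algebraMap R' P')
  have hpp' : p'.LiesOver p := ⟨by
    rw [hp]
    change _ = (q'.comap (algebraMap R' P')).comap (algebraMap R R')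
    rw [Ideal.comap_comap, Ideal.comap_comap, ← IsScalarTower.algebraMap_eq, ← IsScalarTower.algebraMap_eq]⟩
  let E' := p'.Fiber P'
  let E := p.Fiber P
  -- the prime of the fibre ring over `q'`
  obtain ⟨Q', hQ'p, hQ', -⟩ := Groth.Agent.Ega4C.RegFlat.exists_fiber_prime p' q' rfl
  have hflat' : Module.Flat R' P' := Module.Flat.isBaseChange R R' P P'
    (Algebra.IsPushout.out (R := R) (S := R') (R' := P) (S' := P'))
  have hps : Algebra.IsPushout R P R' P' := Algebra.IsPushout.symm inferInstance
  have hflatI : Module.Flat R' (P' ⧸ I.map (algebraMap P P')) :=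
    Groth.Agent.Flat2G.SliceSeq.flat_map_of_isPushout (R := R) I
  let : Algebra P' E' := Algebra.TensorProduct.rightAlgebra
  have h1 : GenK (((I.map (algebraMap P P')).map (algebraMap P' E')).map (algebraMap E' (Localization.AtPrime Q'))) := by
    refine genK_baseChange (R' := R') (k' := p'.ResidueField) _ g' h _ ?_
    have h2 : algebraMap P' E' g' ∉ Q' := by
      intro h3
      apply hg'
      rw [← hQ']
      exact h3
    exact IsLocalization.map_units (Localization.AtPrime Q') (⟨_, h2⟩ : Q'.primeCompl)
  -- the map `E → E'`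
  let : Algebra P E := Algebra.TensorProduct.rightAlgebra
  let a0 := Localization.AtPrime.algebraOfLiesOver p p'
  let a1 : Algebra p.ResidueField p'.ResidueField := inferInstance
  have t0 : IsScalarTower R p.ResidueField p'.ResidueField := by
    refine IsScalarTower.of_algebraMap_eq fun x => ?_
    rw [IsScalarTower.algebraMap_apply R (Localization.AtPrime p) p.ResidueField,
      IsScalarTower.algebraMap_apply R (Localization.AtPrime p') p'.ResidueField,
      IsScalarTower.algebraMap_apply R (Localization.AtPrime p) (Localization.AtPrime p')]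
    rfl
  have t1 : IsScalarTower R p'.ResidueField E' := inferInstance
  have t2 : IsScalarTower p.ResidueField p'.ResidueField E' := inferInstance
  have t3 : IsScalarTower R p.ResidueField E' := inferInstance
  have t4 : IsScalarTower R P' E' := by
    refine IsScalarTower.of_algebraMap_eq fun x => ?_
    rw [IsScalarTower.algebraMap_apply R R' P', ← IsScalarTower.algebraMap_apply R' P' E',
      IsScalarTower.algebraMap_apply R p'.ResidueField E', IsScalarTower.algebraMap_apply R R' p'.ResidueField,
      ← IsScalarTower.algebraMap_apply R' p'.ResidueField E']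
  let γ : P →ₐ[R] E' := (IsScalarTower.toAlgHom R P' E').comp (IsScalarTower.toAlgHom R P P')
  let φ : E →ₐ[p.ResidueField] E' := Algebra.TensorProduct.lift (Algebra.ofId p.ResidueField E') γ
    (fun _ _ => Commute.all _ _)
  let a2 : Algebra E E' := φ.toRingHom.toAlgebra
  have t5 : IsScalarTower p.ResidueField E E' := IsScalarTower.of_algebraMap_eq fun x => (φ.commutes x).symm
  have hφ : ∀ y : P, algebraMap E E' (algebraMap P E y) = algebraMap P' E' (algebraMap P P' y) := fun y => by
    change φ ((1 : p.ResidueField) ⊗ₜ[R] y) = _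
    rw [Algebra.TensorProduct.lift_tmul, map_one, one_mul]
    rfl
  let a3 : Algebra P E' := ((algebraMap P' E').comp (algebraMap P P')).toAlgebra
  have t6 : IsScalarTower P P' E' := IsScalarTower.of_algebraMap_eq fun _ => rfl
  have t7 : IsScalarTower P E E' := IsScalarTower.of_algebraMap_eq fun y => (hφ y).symm
  have t8 : IsScalarTower R P E' := IsScalarTower.of_algebraMap_eq fun x => by
    rw [IsScalarTower.algebraMap_apply P P' E', ← IsScalarTower.algebraMap_apply R P P',
      IsScalarTower.algebraMap_apply R P' E']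
  have t9 : IsScalarTower R E E' := IsScalarTower.of_algebraMap_eq fun x =>
    (IsScalarTower.algebraMap_apply R p.ResidueField E' x).trans
      (IsScalarTower.algebraMap_apply p.ResidueField E E' _)
  have p1 : Algebra.IsPushout R' p'.ResidueField P' E' := inferInstance
  have p2 : Algebra.IsPushout R p'.ResidueField P E' :=
    (Algebra.IsPushout.comp_iff R R' P (S' := P') (T := p'.ResidueField) (T' := E')).2 p1
  have p3 : Algebra.IsPushout R p.ResidueField P E := inferInstance
  have p4 : Algebra.IsPushout p.ResidueField p'.ResidueField E E' :=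
    (Algebra.IsPushout.comp_iff R p.ResidueField P (S' := E) (T := p'.ResidueField) (T' := E')).1 p2
  let Q : Ideal E := Q'.comap (algebraMap E E')
  have hQ : Q.IsPrime := inferInstance
  refine ⟨Q, hQ, ?_, ?_⟩
  · rw [← hQ']
    change Ideal.comap (algebraMap P P') (Ideal.comap (algebraMap P' E') Q') =
      Ideal.comap (algebraMap P E) (Ideal.comap (algebraMap E E') Q')
    rw [Ideal.comap_comap, Ideal.comap_comap, ← IsScalarTower.algebraMap_eq, ← IsScalarTower.algebraMap_eq]
  · refine genK_of_fieldExt (k := p.ResidueField) (k' := p'.ResidueField) (E' := E') Q' Q rfl _ ?_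
    rw [IsScalarTower.algebraMap_eq E E' (Localization.AtPrime Q'), ← Ideal.map_map]
    convert h1 using 2
    rw [Ideal.map_map, Ideal.map_map, ← IsScalarTower.algebraMap_eq, ← IsScalarTower.algebraMap_eq]

/-- **Descent.** If the base change of `I` is Koszul-regular near `q'` then `I` is Koszul-regular near `q`. -/
theorem exists_genK_descend (R R' : Type u) {P P' : Type u} [CommRing R] [CommRing P] [CommRing R'] [CommRing P']
    [Algebra R P] [Algebra R R'] [Algebra R' P'] [Algebra P P'] [Algebra R P'] [IsScalarTower R R' P']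
    [IsScalarTower R P P'] [Algebra.IsPushout R R' P P'] [Algebra.FinitePresentation R P] [Module.Flat R P]
    (I : Ideal P) (hI : I.FG) [Module.Flat R (P ⧸ I)]
    (q' : Ideal P') [q'.IsPrime] (hIq : I ≤ q'.comap (algebraMap P P')) (g' : P') (hg' : g' ∉ q')
    (h : GenK ((I.map (algebraMap P P')).map (algebraMap P' (Localization.Away g')))) :
    ∃ g : P, g ∉ q'.comap (algebraMap P P') ∧ GenK (I.map (algebraMap P (Localization.Away g))) := by
  set q := q'.comap (algebraMap P P') with hq
  let p : Ideal R := q.comap (algebraMap R P)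
  obtain ⟨Q, hQp, hQ, hQI⟩ := genK_fibre_of_baseChange R R' I q' g' hg' h p rfl
  obtain ⟨h1, ⟨e⟩⟩ := genK_quotient_of_fiber p q Q hQ I hQI
  have hlo : q.LiesOver p := ⟨rfl⟩
  let a1 := Localization.AtPrime.algebraOfLiesOver p q
  have hloc : IsLocalHom (algebraMap (Localization.AtPrime p) (Localization.AtPrime q)) := by
    rw [RingHom.algebraMap_toAlgebra]
    exact Localization.isLocalHom_localRingHom p q (algebraMap R P) Ideal.LiesOver.over
  have hfl : Module.Flat (Localization.AtPrime p) (Localization.AtPrime q) := inferInstance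
  have hJ : (p.map (algebraMap R P)).map (algebraMap P (Localization.AtPrime q)) =
      (maximalIdeal (Localization.AtPrime p)).map (algebraMap (Localization.AtPrime p) (Localization.AtPrime q)) := by
    rw [← Localization.AtPrime.map_eq_maximalIdeal, Ideal.map_map, Ideal.map_map,
      ← IsScalarTower.algebraMap_eq, ← IsScalarTower.algebraMap_eq]
  set J := (p.map (algebraMap R P)).map (algebraMap P (Localization.AtPrime q)) with hJdef
  have hnoeth : IsNoetherianRing (Localization.AtPrime q ⧸ J) := by
    have : IsNoetherianRing (p.Fiber P) := Algebra.FiniteType.isNoetherianRing p.ResidueField (p.Fiber P)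
    have : IsNoetherianRing (Localization.AtPrime Q) := inferInstance
    exact isNoetherianRing_of_ringEquiv _ e.symm
  have hJm : J ≤ maximalIdeal (Localization.AtPrime q) := by
    rw [hJ]
    exact ((IsLocalRing.local_hom_TFAE (algebraMap (Localization.AtPrime p) (Localization.AtPrime q))).out 0 2).1
      hloc
  have hnt : Nontrivial (Localization.AtPrime q ⧸ J) := Ideal.Quotient.nontrivial_iff.mpr fun h0 =>
    (maximalIdeal.isMaximal (Localization.AtPrime q)).ne_top (top_le_iff.mp (h0 ▸ hJm))
  have hlr : IsLocalRing (Localization.AtPrime q ⧸ J) :=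
    IsLocalRing.of_surjective' (Ideal.Quotient.mk _) Ideal.Quotient.mk_surjective
  obtain ⟨m, hm, hmI⟩ := h1
  have hIm : I.map (algebraMap P (Localization.AtPrime q)) ≤ maximalIdeal (Localization.AtPrime q) := by
    rw [← Localization.AtPrime.map_eq_maximalIdeal]
    exact Ideal.map_mono hIq
  have hmm : ∀ x ∈ m, x ∈ maximalIdeal (Localization.AtPrime q ⧸ J) := by
    intro x hx
    have hx' : x ∈ (I.map (algebraMap P (Localization.AtPrime q))).map (Ideal.Quotient.mk J) := by
      rw [hmI]
      exact Ideal.subset_span hx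
    obtain ⟨y, hy, rfl⟩ := (Ideal.mem_map_iff_of_surjective _ Ideal.Quotient.mk_surjective).1 hx'
    have hl : IsLocalHom (Ideal.Quotient.mk J) := Function.Surjective.isLocalHom _ Ideal.Quotient.mk_surjective
    have h3 := hIm hy
    rw [mem_maximalIdeal, mem_nonunits_iff] at h3 ⊢
    exact fun h4 => h3 (isUnit_of_map_unit (Ideal.Quotient.mk J) y h4)
  have hmr : IsWeaklyRegular (Localization.AtPrime q ⧸ J) m :=
    (Groth.Agent.Flat2H.KoszulNoeth.isKoszulRegularSeq_iff_isWeaklyRegular hmm).1 hm
  have hfl2 : Module.Flat (Localization.AtPrime p)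
      (Localization.AtPrime q ⧸ I.map (algebraMap P (Localization.AtPrime q))) := by
    have h2 : Module.Flat R (Localization.AtPrime q ⧸ I.map (algebraMap P (Localization.AtPrime q))) :=
      Groth.Agent.Flat2G.SliceSeq.flat_map_of_flat I
    exact (Module.flat_iff_of_isLocalization (Localization.AtPrime p) p.primeCompl _).2 h2
  exact K638.KosAlg.exists_genK_of_fibre (R := R) (Rp := Localization.AtPrime p) (Pq := Localization.AtPrime q)
    p q rfl I hI hIq hfl hfl2 J hJ m hmr hmI

end Main

end K638.KosFib
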