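import Groth.Agent.AlgSp.K638.KosFib
import Groth.Agent.Flat2H.LCIPoint
import Groth.Agent.S6063

/-!
# The lci locus of a morphism of flat, finitely presented algebras commutes with base change
-/

set_option autoImplicit false
universe u

namespace K638.KosRing

open CategoryTheory
open Groth.Agent.Flat2H.KoszulIdeal Groth.Agent.Flat2H.LCIPoint LCI

/-- The base change of a surjection along a ring map: surjective, with the extended kernel. -/
theorem surj_of_isPushout (P P' B B' : Type u) [CommRing P] [CommRing P'] [CommRing B] [CommRing B'] [Algebra P P']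
    [Algebra P B] [Algebra P' B'] [Algebra B B'] [Algebra P B'] [IsScalarTower P P' B'] [IsScalarTower P B B']
    [Algebra.IsPushout P P' B B'] (h : Function.Surjective (algebraMap P B)) :
    Function.Surjective (algebraMap P' B') ∧
      RingHom.ker (algebraMap P' B') = (RingHom.ker (algebraMap P B)).map (algebraMap P P') := by
  have hpo : IsPushout (CommRingCat.ofHom (algebraMap P P')) (CommRingCat.ofHom (algebraMap P B))
      (CommRingCat.ofHom (algebraMap P' B')) (CommRingCat.ofHom (algebraMap B B')) :=
    CommRingCat.isPushout_of_isPushout P P' B B'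
  refine ⟨?_, Groth.Agent.S6063.pushout_surj hpo h⟩
  intro y
  refine IsBaseChange.inductionOn (Algebra.IsPushout.out (R := P) (S := P') (R' := B) (S' := B')) y
    (fun y => ∃ z, algebraMap P' B' z = y) ⟨0, map_zero _⟩ ?_ ?_ ?_
  · intro b
    obtain ⟨p, rfl⟩ := h b
    refine ⟨algebraMap P P' p, ?_⟩
    change algebraMap P' B' (algebraMap P P' p) = algebraMap B B' (algebraMap P B p)
    rw [← IsScalarTower.algebraMap_apply, ← IsScalarTower.algebraMap_apply]
  · rintro s _ ⟨z, rfl⟩
    exact ⟨s * z, by rw [map_mul, Algebra.smul_def]⟩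
  · rintro _ _ ⟨z, rfl⟩ ⟨w, rfl⟩
    exact ⟨z + w, map_add _ _ _⟩

attribute [local instance] MvPolynomial.algebraMvPolynomial

theorem isLCI_baseChange_iff (R R' A A' B B' : Type u) [CommRing R] [CommRing R'] [CommRing A] [CommRing A']
    [CommRing B] [CommRing B'] [Algebra R A] [Algebra R R'] [Algebra A A'] [Algebra R' A'] [Algebra R A']
    [IsScalarTower R A A'] [IsScalarTower R R' A'] [Algebra A B] [Algebra R B] [IsScalarTower R A B]
    [Algebra A' B'] [Algebra B B'] [Algebra A B'] [IsScalarTower A A' B'] [IsScalarTower A B B']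
    [Algebra.IsPushout R R' A A'] [Algebra.IsPushout A A' B B']
    [Algebra.FinitePresentation R A] [Module.Flat R A] [Algebra.FinitePresentation R B] [Module.Flat R B]
    (q' : Ideal B') [q'.IsPrime] :
    (∃ b' : B', b' ∉ q' ∧ IsLCI A' (Localization.Away b')) ↔
      ∃ b : B, b ∉ q'.comap (algebraMap B B') ∧ IsLCI A (Localization.Away b) := by
  have hfp : Algebra.FinitePresentation A B :=
    Algebra.FinitePresentation.of_restrict_scalars_finitePresentation R A B
  obtain ⟨n, φ, hφ, hker⟩ := hfp.out
  let P := MvPolynomial (Fin n) A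
  let P' := MvPolynomial (Fin n) A'
  let φ' : P' →ₐ[A'] B' := MvPolynomial.aeval fun i => algebraMap B B' (φ (MvPolynomial.X i))
  let a1 : Algebra P B := φ.toRingHom.toAlgebra
  let a2 : Algebra P' B' := φ'.toRingHom.toAlgebra
  let a3 : Algebra P B' := ((algebraMap B B').comp (algebraMap P B)).toAlgebra
  have t1 : IsScalarTower P B B' := IsScalarTower.of_algebraMap_eq fun _ => rfl
  have t2 : IsScalarTower A P B := IsScalarTower.of_algebraMap_eq fun x => (φ.commutes x).symm
  have t3 : IsScalarTower A' P' B' := IsScalarTower.of_algebraMap_eq fun x => (φ'.commutes x).symm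
  have t4 : IsScalarTower P P' B' := by
    refine IsScalarTower.of_algebraMap_eq' ?_
    change (algebraMap B B').comp φ.toRingHom = φ'.toRingHom.comp (algebraMap P P')
    apply MvPolynomial.ringHom_ext
    · intro x
      change algebraMap B B' (φ (MvPolynomial.C x)) = φ' (algebraMap P P' (MvPolynomial.C x))
      have h1 : algebraMap P P' (MvPolynomial.C x) = MvPolynomial.C (algebraMap A A' x) := by
        rw [MvPolynomial.algebraMap_def, MvPolynomial.map_C]
      rw [h1, MvPolynomial.algHom_C, MvPolynomial.algHom_C, ← IsScalarTower.algebraMap_apply,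
        ← IsScalarTower.algebraMap_apply]
    · intro i
      change algebraMap B B' (φ (MvPolynomial.X i)) = φ' (algebraMap P P' (MvPolynomial.X i))
      have h1 : algebraMap P P' (MvPolynomial.X i) = MvPolynomial.X i := by
        rw [MvPolynomial.algebraMap_def, MvPolynomial.map_X]
      rw [h1, MvPolynomial.aeval_X]
  have t5 : IsScalarTower A P B' := IsScalarTower.of_algebraMap_eq fun x => by
    rw [IsScalarTower.algebraMap_apply P B B', ← IsScalarTower.algebraMap_apply A P B,
      ← IsScalarTower.algebraMap_apply A B B']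
  have t6 : IsScalarTower A P' B' := IsScalarTower.of_algebraMap_eq fun x => by
    rw [IsScalarTower.algebraMap_apply A A' P', ← IsScalarTower.algebraMap_apply A' P' B',
      ← IsScalarTower.algebraMap_apply A A' B']
  have hp1 : Algebra.IsPushout A A' P P' := inferInstance
  have hp2 : Algebra.IsPushout P P' B B' :=
    ((Algebra.IsPushout.comp_iff A P A' (S' := P') (T := B) (T' := B')).1
      (Algebra.IsPushout.symm (inferInstance : Algebra.IsPushout A A' B B'))).symm
  obtain ⟨hs, hk⟩ := surj_of_isPushout P P' B B' hφ
  rw [exists_isLCI_away_iff φ hφ, exists_isLCI_away_iff φ' hs]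
  -- `R → R'`, `P → P'`
  have t7 : IsScalarTower A P P' := inferInstance
  have t8 : IsScalarTower R P P' := IsScalarTower.of_algebraMap_eq fun x => by
    rw [IsScalarTower.algebraMap_apply R A P, ← IsScalarTower.algebraMap_apply A P P',
      IsScalarTower.algebraMap_apply R A' P', IsScalarTower.algebraMap_apply R A A',
      ← IsScalarTower.algebraMap_apply A A' P']
  have t9 : IsScalarTower R R' P' := inferInstance
  have hp3 : Algebra.IsPushout R R' P P' := by
    have h1 : Algebra.IsPushout A P A' P' := Algebra.IsPushout.symm hp1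
    have h2 : Algebra.IsPushout R A R' A' := Algebra.IsPushout.symm inferInstance
    exact ((Algebra.IsPushout.comp_iff R A R' (S' := A') (T := P) (T' := P')).2 h1).symm
  have hfl : Module.Flat R P := Module.Flat.trans R A P
  have hIfl : Module.Flat R (P ⧸ RingHom.ker φ.toRingHom) := by
    let e : (P ⧸ RingHom.ker φ.toRingHom) ≃+* B := RingHom.quotientKerEquivOfSurjective hφ
    have he : ∀ x : R, e (algebraMap R (P ⧸ RingHom.ker φ.toRingHom) x) = algebraMap R B x := fun x => by
      change φ.toRingHom (algebraMap R P x) = _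
      rw [IsScalarTower.algebraMap_apply R A P, IsScalarTower.algebraMap_apply R A B]
      exact φ.commutes _
    let e' : (P ⧸ RingHom.ker φ.toRingHom) ≃ₐ[R] B := AlgEquiv.ofRingEquiv (f := e) he
    exact Module.Flat.of_linearEquiv e'.toLinearEquiv
  have hq : (q'.comap (algebraMap P' B')).comap (algebraMap P P') =
      (q'.comap (algebraMap B B')).comap φ.toRingHom := by
    rw [Ideal.comap_comap, ← IsScalarTower.algebraMap_eq, IsScalarTower.algebraMap_eq P B B',
      ← Ideal.comap_comap]
    rfl
  have hle : RingHom.ker φ.toRingHom ≤ (q'.comap (algebraMap P' B')).comap (algebraMap P P') := by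
    rw [hq]
    intro x hx
    rw [Ideal.mem_comap, (RingHom.mem_ker).1 hx]
    exact zero_mem _
  constructor
  · rintro ⟨g', hg', h⟩
    have hk' : RingHom.ker φ'.toRingHom = (RingHom.ker φ.toRingHom).map (algebraMap P P') := hk
    rw [hk'] at h
    obtain ⟨g, hg, h2⟩ := K638.KosFib.exists_genK_descend R R' (RingHom.ker φ.toRingHom) hker
      (q'.comap (algebraMap P' B')) hle g' hg' h
    exact ⟨g, hq ▸ hg, h2⟩
  · rintro ⟨g, hg, h⟩
    obtain ⟨g', hg', h2⟩ := K638.KosFib.exists_genK_baseChange R R' (RingHom.ker φ.toRingHom)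
      (q'.comap (algebraMap P' B')) g (hq ▸ hg) h
    have hk' : RingHom.ker φ'.toRingHom = (RingHom.ker φ.toRingHom).map (algebraMap P P') := hk
    exact ⟨g', hg', by rw [hk']; exact h2⟩

end K638.KosRing
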