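import Groth.Agent.AlgSp.K638.KosRing
import Groth.Agent.AlgSp.K637.EtLocLci
import Groth.Agent.AlgSp.K616.BaseChange

/-!
# The Koszul locus commutes with base change (schemes)

`At f x`: `f` is lci on an open neighbourhood of `x`.
* `at_comp_etale_iff`, `at_postcomp_iff`, `at_square_iff`: étale invariance
* `at_Spec_iff`
* `at_baseChange_iff`: for `f : X ⟶ Y`, `q : Y ⟶ Z` with `q`, `f ≫ q` flat and locally of finite presentation
  and a base change along `Z' ⟶ Z`.
-/

set_option autoImplicit false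
universe u
open CategoryTheory CategoryTheory.Limits AlgebraicGeometry

namespace K638.KosScheme

open K561.LciDict Groth.Agent.Dual.H375.LciLocus Groth.Agent.Flat2H K637.EtLocLci LCI

/-- lci near `x` -/
def At {X Y : Scheme.{u}} (f : X ⟶ Y) (x : X) : Prop := ∃ O : X.Opens, x ∈ O ∧ LM (O.ι ≫ f)

theorem at_postcomp_iff {X Y Z : Scheme.{u}} (f : X ⟶ Y) (e : Y ⟶ Z) [Smooth e] (x : X) :
    At (f ≫ e) x ↔ At f x := by
  unfold At
  simp only [← Category.assoc]
  refine exists_congr fun O => and_congr_right fun _ => ?_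
  exact LM_comp_smooth_iff _ _

theorem at_comp_etale_iff {A X Y : Scheme.{u}} (e : A ⟶ X) [Etale e] (f : X ⟶ Y) (a : A) :
    At (e ≫ f) a ↔ At f (e a) := by
  constructor
  · rintro ⟨O, ha, h⟩
    refine ⟨⟨e '' O, e.isOpenMap _ O.isOpen⟩, ⟨a, ha, rfl⟩, LM_descend' _ ?_⟩
    rintro ⟨_, b, hb, rfl⟩
    set U : X.Opens := ⟨e '' O, e.isOpenMap _ O.isOpen⟩ with hU
    have hr : Set.range (O.ι ≫ e) ⊆ Set.range U.ι := by
      rintro _ ⟨c, rfl⟩
      rw [Scheme.Opens.range_ι]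
      exact ⟨c.1, c.2, rfl⟩
    have hl : IsOpenImmersion.lift U.ι (O.ι ≫ e) hr ≫ U.ι = O.ι ≫ e := IsOpenImmersion.lift_fac _ _ _
    refine ⟨O, IsOpenImmersion.lift U.ι (O.ι ≫ e) hr, ?_, ⟨⟨b, hb⟩, ?_⟩, ?_⟩
    · exact K637.EtCover.of_comp_mono (P := @Etale) (ψ := U.ι) (by rw [hl]; infer_instance)
    · apply U.ι.isOpenEmbedding.injective
      rw [← Scheme.Hom.comp_apply, hl]
      rfl
    · rw [← Category.assoc, hl, Category.assoc]
      exact h
  · rintro ⟨O, hO, h⟩
    refine ⟨e ⁻¹ᵁ O, hO, ?_⟩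
    rw [← Category.assoc, ← morphismRestrict_ι, Category.assoc]
    exact LM_comp (LM_smooth _) h

/-- étale invariance -/
theorem at_square_iff {A B X Y : Scheme.{u}} (e : A ⟶ X) [Etale e] (e' : B ⟶ Y) [Etale e'] (f₀ : A ⟶ B) (f : X ⟶ Y)
    (w : f₀ ≫ e' = e ≫ f) (a : A) : At f₀ a ↔ At f (e a) := by
  rw [← at_comp_etale_iff e f a, ← w, at_postcomp_iff]

theorem LM_Spec_iff {A B : CommRingCat.{u}} (φ : A ⟶ B) :
    LM (Spec.map φ) ↔ letI := φ.hom.toAlgebra; IsLCI A B :=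
  HasRingHomProperty.Spec_iff (P := LM)

theorem at_Spec_iff {A B : CommRingCat.{u}} (φ : A ⟶ B) (x : Spec B) :
    At (Spec.map φ) x ↔ letI := φ.hom.toAlgebra; ∃ b : B, b ∉ x.asIdeal ∧ IsLCI A (Localization.Away b) := by
  algebraize [φ.hom]
  have key : ∀ b : B, LM (Spec.map (CommRingCat.ofHom (algebraMap B (Localization.Away b))) ≫ Spec.map φ) ↔
      IsLCI A (Localization.Away b) := fun b => by
    rw [← Spec.map_comp, LM_Spec_iff]
    have : (φ ≫ CommRingCat.ofHom (algebraMap B (Localization.Away b))).hom.toAlgebra =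
        (inferInstance : Algebra A (Localization.Away b)) := by
      apply Algebra.algebra_ext
      intro r
      exact (IsScalarTower.algebraMap_apply A B (Localization.Away b) r).symm
    rw [this]
  have hoi : ∀ b : B, IsOpenImmersion (Spec.map (CommRingCat.ofHom (algebraMap B (Localization.Away b)))) :=
    fun b => inferInstance
  have hr : ∀ b : B, b ∉ x.asIdeal → ∃ y, Spec.map (CommRingCat.ofHom (algebraMap B (Localization.Away b))) y = x := by
    intro b hb
    have : x ∈ Set.range (Spec.map (CommRingCat.ofHom (algebraMap B (Localization.Away b)))) := by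
      have h1 := PrimeSpectrum.localization_away_comap_range (Localization.Away b) b
      change x ∈ Set.range (PrimeSpectrum.comap (algebraMap B (Localization.Away b)))
      rw [h1]
      exact hb
    exact this
  constructor
  · rintro ⟨O, hx, h⟩
    obtain ⟨_, ⟨b, rfl⟩, hb, hbO⟩ := PrimeSpectrum.isTopologicalBasis_basic_opens.exists_subset_of_mem_open
      (a := x) (u := (O : Set (Spec B))) hx O.isOpen
    refine ⟨b, hb, (key b).1 ?_⟩
    set j := Spec.map (CommRingCat.ofHom (algebraMap B (Localization.Away b)))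
    have hrj : Set.range j ⊆ Set.range O.ι := by
      rw [Scheme.Opens.range_ι]
      rintro _ ⟨y, rfl⟩
      apply hbO
      have h1 := PrimeSpectrum.localization_away_comap_range (Localization.Away b) b
      exact h1.le ⟨y, rfl⟩
    rw [← IsOpenImmersion.lift_fac O.ι j hrj, Category.assoc]
    exact IsZariskiLocalAtSource.comp h _
  · rintro ⟨b, hb, h⟩
    obtain ⟨y, hy⟩ := hr b hb
    have h2 := (key b).2 h
    rw [← hy, ← at_comp_etale_iff]
    exact ⟨⊤, trivial, IsZariskiLocalAtSource.comp h2 _⟩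

theorem at_baseChange_iff_Spec {R R' A A' B B' : CommRingCat.{u}} (ρ : R ⟶ R') (α : R ⟶ A) (β : A ⟶ B)
    (α' : R' ⟶ A') (σ : A ⟶ A') (β' : A' ⟶ B') (τ : B ⟶ B') (hA : IsPushout ρ α α' σ) (hB : IsPushout σ β β' τ)
    (hα1 : α.hom.Flat) (hα2 : α.hom.FinitePresentation) (hβ1 : (α ≫ β).hom.Flat)
    (hβ2 : (α ≫ β).hom.FinitePresentation) (x' : Spec B') :
    At (Spec.map β') x' ↔ At (Spec.map β) (Spec.map τ x') := by
  rw [at_Spec_iff, at_Spec_iff]
  algebraize [ρ.hom, α.hom, β.hom, α'.hom, σ.hom, β'.hom, τ.hom, (α ≫ β).hom, (σ ≫ β').hom, (ρ ≫ α').hom]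
  have t1 : IsScalarTower R A B := IsScalarTower.of_algebraMap_eq fun _ => rfl
  have t2 : IsScalarTower R R' A' := IsScalarTower.of_algebraMap_eq fun _ => rfl
  have t3 : IsScalarTower R A A' := IsScalarTower.of_algebraMap_eq' (by
    change (ρ ≫ α').hom = (α ≫ σ).hom
    rw [hA.w])
  have t4 : IsScalarTower A A' B' := IsScalarTower.of_algebraMap_eq fun _ => rfl
  have t5 : IsScalarTower A B B' := IsScalarTower.of_algebraMap_eq' (by
    change (σ ≫ β').hom = (β ≫ τ).hom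
    rw [hB.w])
  have p1 : Algebra.IsPushout R R' A A' :=
    (CommRingCat.isPushout_iff_isPushout (R := R) (S := A) (R' := R') (S' := A')).1 hA
  have p2 : Algebra.IsPushout A A' B B' :=
    (CommRingCat.isPushout_iff_isPushout (R := A) (S := B) (R' := A') (S' := B')).1 hB
  exact K638.KosRing.isLCI_baseChange_iff R R' A A' B B' x'.asIdeal

/-- A point of a cube of pullbacks of affine charts. -/
theorem at_baseChange_iff {X Y Z X' Y' Z' : Scheme.{u}} {f : X ⟶ Y} {q : Y ⟶ Z} {g : Z' ⟶ Z} {gY : Y' ⟶ Y}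
    {q' : Y' ⟶ Z'} {gX : X' ⟶ X} {f' : X' ⟶ Y'} (hY : IsPullback gY q' q g) (hX : IsPullback gX f' f gY)
    [Flat q] [LocallyOfFinitePresentation q] [Flat (f ≫ q)] [LocallyOfFinitePresentation (f ≫ q)] (x' : X') :
    At f' x' ↔ At f (gX x') := by
  obtain ⟨W, hW, hzW, -⟩ := exists_isAffineOpen_mem_and_subset (x := g (q' (f' x'))) (U := ⊤) trivial
  obtain ⟨W', hW', hzW', hWW'⟩ := exists_isAffineOpen_mem_and_subset (x := q' (f' x')) (U := g ⁻¹ᵁ W) hzW
  obtain ⟨V, hV, hyV, hVW⟩ := exists_isAffineOpen_mem_and_subset (x := gY (f' x')) (U := q ⁻¹ᵁ W) (by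
    change q (gY (f' x')) ∈ W
    rw [← Scheme.Hom.comp_apply, hY.w]
    exact hzW)
  obtain ⟨U, hU, hxU, hUV⟩ := exists_isAffineOpen_mem_and_subset (x := gX x') (U := f ⁻¹ᵁ V) (by
    change f (gX x') ∈ V
    rw [← Scheme.Hom.comp_apply, hX.w]
    exact hyV)
  let ρ := g.appLE W W' hWW'
  let α := q.appLE W V hVW
  let β := f.appLE V U hUV
  let σ := pushout.inr ρ α
  let α' := pushout.inl ρ α
  let β' := pushout.inl σ β
  let τ := pushout.inr σ β
  have hA : IsPushout ρ α α' σ := IsPushout.of_hasPushout ρ α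
  have hB : IsPushout σ β β' τ := IsPushout.of_hasPushout σ β
  have sA : IsPullback (Spec.map σ) (Spec.map α') (Spec.map α) (Spec.map ρ) :=
    isPullback_SpecMap_of_isPushout _ _ _ _ hA.flip
  have sB : IsPullback (Spec.map τ) (Spec.map β') (Spec.map β) (Spec.map σ) :=
    isPullback_SpecMap_of_isPushout _ _ _ _ hB.flip
  have cW : Spec.map ρ ≫ hW.fromSpec = hW'.fromSpec ≫ g := IsAffineOpen.SpecMap_appLE_fromSpec g hW hW' hWW'
  have cV : Spec.map α ≫ hW.fromSpec = hV.fromSpec ≫ q := IsAffineOpen.SpecMap_appLE_fromSpec q hW hV hVW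
  have cU : Spec.map β ≫ hV.fromSpec = hU.fromSpec ≫ f := IsAffineOpen.SpecMap_appLE_fromSpec f hV hU hUV
  -- the charts of `Y'` and `X'`
  let b' : Spec (pushout ρ α) ⟶ Y' := hY.lift (Spec.map σ ≫ hV.fromSpec) (Spec.map α' ≫ hW'.fromSpec) (by
    rw [Category.assoc, Category.assoc, ← cV, ← cW, ← Category.assoc, sA.w, Category.assoc])
  have b1 : b' ≫ gY = Spec.map σ ≫ hV.fromSpec := hY.lift_fst _ _ _
  have b2 : b' ≫ q' = Spec.map α' ≫ hW'.fromSpec := hY.lift_snd _ _ _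
  let a' : Spec (pushout σ β) ⟶ X' := hX.lift (Spec.map τ ≫ hU.fromSpec) (Spec.map β' ≫ b') (by
    rw [Category.assoc, Category.assoc, ← cU, b1, ← Category.assoc, sB.w, Category.assoc])
  have a1 : a' ≫ gX = Spec.map τ ≫ hU.fromSpec := hX.lift_fst _ _ _
  have a2 : a' ≫ f' = Spec.map β' ≫ b' := hX.lift_snd _ _ _
  have hb' : Etale b' := K616.BaseChange.mem_of_cube (@Etale) hY sA (a := hV.fromSpec) (b := hW.fromSpec)
    (b' := hW'.fromSpec) cV.symm cW.symm b' b1 b2 inferInstance inferInstance inferInstance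
  have ha' : Etale a' := K616.BaseChange.mem_of_cube (@Etale) hX sB (a := hU.fromSpec) (b := hV.fromSpec)
    (b' := b') cU.symm b1 a' a1 a2 inferInstance inferInstance inferInstance
  -- the point
  let O : X'.Opens := gX ⁻¹ᵁ U ⊓ f' ⁻¹ᵁ q' ⁻¹ᵁ W'
  let l1 : O.toScheme ⟶ Spec Γ(X, U) := IsOpenImmersion.lift hU.fromSpec (O.ι ≫ gX) (by
    rintro _ ⟨y, rfl⟩
    rw [hU.range_fromSpec]
    exact y.2.1)
  have hl1 : l1 ≫ hU.fromSpec = O.ι ≫ gX := IsOpenImmersion.lift_fac _ _ _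
  let l2 : O.toScheme ⟶ Spec Γ(Z', W') := IsOpenImmersion.lift hW'.fromSpec (O.ι ≫ f' ≫ q') (by
    rintro _ ⟨y, rfl⟩
    rw [hW'.range_fromSpec]
    exact y.2.2)
  have hl2 : l2 ≫ hW'.fromSpec = O.ι ≫ f' ≫ q' := IsOpenImmersion.lift_fac _ _ _
  let l3 : O.toScheme ⟶ Spec (pushout ρ α) := sA.lift (l1 ≫ Spec.map β) l2 (by
    rw [← cancel_mono hW.fromSpec, Category.assoc, Category.assoc, Category.assoc, cV, cW, ← Category.assoc _ _ q,
      cU, ← Category.assoc, ← Category.assoc, hl1, ← Category.assoc, hl2]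
    simp only [Category.assoc]
    rw [← hY.w, ← Category.assoc f', ← hX.w, Category.assoc])
  have hl31 : l3 ≫ Spec.map σ = l1 ≫ Spec.map β := sA.lift_fst _ _ _
  have hl32 : l3 ≫ Spec.map α' = l2 := sA.lift_snd _ _ _
  let l4 : O.toScheme ⟶ Spec (pushout σ β) := sB.lift l1 l3 hl31.symm
  have hl41 : l4 ≫ Spec.map τ = l1 := sB.lift_fst _ _ _
  have hl42 : l4 ≫ Spec.map β' = l3 := sB.lift_snd _ _ _
  have hl : l4 ≫ a' = O.ι := by
    apply hX.hom_ext
    · rw [Category.assoc, a1, ← Category.assoc, hl41, hl1]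
    · rw [Category.assoc, a2, ← Category.assoc, hl42]
      apply hY.hom_ext
      · rw [Category.assoc, b1, ← Category.assoc, hl31, Category.assoc, cU, ← Category.assoc, hl1,
          Category.assoc, Category.assoc, hX.w]
      · rw [Category.assoc, b2, ← Category.assoc, hl32, hl2, Category.assoc]
  let pt : Spec (pushout σ β) := l4 ⟨x', hxU, hzW'⟩
  have hpt : a' pt = x' := by
    change a' (l4 ⟨x', hxU, hzW'⟩) = x'
    rw [← Scheme.Hom.comp_apply, hl]
    rfl
  have h1 : At f' x' ↔ At (Spec.map β') pt := by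
    rw [at_square_iff a' b' (Spec.map β') f' a2.symm pt, hpt]
  have h2 : At f (gX x') ↔ At (Spec.map β) (Spec.map τ pt) := by
    rw [at_square_iff hU.fromSpec hV.fromSpec (Spec.map β) f cU, ← Scheme.Hom.comp_apply, ← a1,
      Scheme.Hom.comp_apply, hpt]
  rw [h1, h2]
  have hq1 : α.hom.Flat := HasRingHomProperty.appLE (P := @Flat) q inferInstance ⟨W, hW⟩ ⟨V, hV⟩ hVW
  have hq2 : α.hom.FinitePresentation :=
    HasRingHomProperty.appLE (P := @LocallyOfFinitePresentation) q inferInstance ⟨W, hW⟩ ⟨V, hV⟩ hVW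
  have e3 : α ≫ β = (f ≫ q).appLE W U (hUV.trans (f.preimage_mono hVW)) :=
    Scheme.Hom.appLE_comp_appLE f q W V U hVW hUV
  refine at_baseChange_iff_Spec ρ α β α' σ β' τ hA hB hq1 hq2 ?_ ?_ pt
  · rw [e3]
    exact HasRingHomProperty.appLE (P := @Flat) (f ≫ q) inferInstance ⟨W, hW⟩ ⟨U, hU⟩ _
  · rw [e3]
    exact HasRingHomProperty.appLE (P := @LocallyOfFinitePresentation) (f ≫ q) inferInstance ⟨W, hW⟩ ⟨U, hU⟩ _

end K638.KosScheme
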