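import Groth.Agent.AlgSp.K597.LocP
import Groth.Agent.AlgSp.K597.EtLoc
import Groth.Agent.AlgSp.K610.Sub
import Groth.Agent.AlgSp.K610.OpenImm
import Groth.Agent.AlgSp.K609.Points
import Groth.Agent.AlgSp.K595.DiagRel
import Groth.Agent.AlgSp.K595.DiagBasic
import Groth.Prelude.Def_AlgSpDec

/-!
# The quasi-finite locus of a separated morphism from an algebraic space to a scheme is a scheme

`LqfSch` is the statement of S10259 (separated locally quasi-finite over a scheme is a scheme).
`exists_scheme_of_qf`: the open locus where a separated `X ⟶ h_T` is quasi-finite is (an open subspace which is) a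
scheme, separated and locally quasi-finite over `T`.
-/

set_option autoImplicit false
universe u
open CategoryTheory CategoryTheory.Limits AlgebraicGeometry Opposite Topology

namespace K638.QfNhd

open AlgSp

variable {S : Scheme.{u}}

variable (S) in
/-- The statement of S10259. -/
def LqfSch : Prop :=
  ∀ (T : Over S) (X : AlgSp.Space S) (f : X ⟶ (AlgSp.ofScheme S).obj T)
    (_ : AlgSp.LocP (@LocallyQuasiFinite ⊓ @LocallyOfFiniteType) f.hom) (_ : AlgSp.IsSeparatedMor f.hom),
    X.obj.obj.IsRepresentable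

/-- Points at which `f : X ⟶ h_T` is quasi-finite. -/
def qfSet {X : Sp S} {T : Over S} (f : X ⟶ (yon S).obj T) : Set (Points X) :=
  {x | ∃ (W : Over S) (a : (yon S).obj W ⟶ X) (g : W ⟶ T) (w : W.left), RepWith @Etale a ∧
    a ≫ f = (yon S).map g ∧ LocallyQuasiFinite g.left ∧ LocallyOfFiniteType g.left ∧ Points.ofPt a w = x}

theorem isOpen_qfSet {X : Sp S} {T : Over S} (f : X ⟶ (yon S).obj T) : IsOpen (qfSet f) := by
  rw [isOpen_iff_forall_mem_open]
  rintro x ⟨W, a, g, w, ha, h1, h2, h3, rfl⟩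
  refine ⟨Set.range (Points.ofPt a), ?_, (K609.Points.isOpenMap_ofPt ha).isOpen_range, ⟨w, rfl⟩⟩
  rintro _ ⟨w', rfl⟩
  exact ⟨W, a, g, w', ha, h1, h2, h3, rfl⟩

theorem etale_of_open {F G : Sp S} {f : F ⟶ G} (h : RepWith @IsOpenImmersion f) : RepWith @Etale f :=
  K597.repWith_mono (fun _ _ f hf => by
    have : IsOpenImmersion f := hf
    exact inferInstanceAs (Etale f)) h

theorem imm_of_open {F G : Sp S} {f : F ⟶ G} (h : RepWith @IsOpenImmersion f) : RepWith @IsImmersion f :=
  K597.repWith_mono (fun _ _ f hf => by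
    have : IsOpenImmersion f := hf
    exact inferInstanceAs (IsImmersion f)) h

theorem separated_of_open {F G : Sp S} {f : F ⟶ G} (h : RepWith @IsOpenImmersion f) : IsSeparatedMor f :=
  (K595.DiagBasic.isSeparatedMor_iff_repWith h.1).2 (K597.repWith_mono (fun _ _ f hf => by
    have : IsOpenImmersion f := hf
    exact inferInstanceAs (IsSeparated f)) h)

theorem separated_comp {F G H : Sp S} {f : F ⟶ G} {g : G ⟶ H} (hf : IsSeparatedMor f) (hg : IsSeparatedMor g) :
    IsSeparatedMor (f ≫ g) :=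
  MorphismProperty.comp_mem (IsSeparatedMor (S := S)) f g hf hg

theorem separated_bc {F G F' G' : Sp S} {f : F ⟶ G} {g : G' ⟶ G} {g' : F' ⟶ F} {f' : F' ⟶ G'}
    (sq : IsPullback g' f' f g) (hf : IsSeparatedMor f) : IsSeparatedMor f' :=
  MorphismProperty.of_isPullback (P := IsSeparatedMor (S := S)) sq hf

theorem open_of_iso {F : Sp S} {D : Over S} (e : (yon S).obj D ≅ F) : RepWith @IsOpenImmersion e.hom := by
  have := MorphismProperty.RespectsIso.postcomp (RepWith (S := S) @IsOpenImmersion) e.hom (𝟙 _)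
    (repWith_id @IsOpenImmersion D)
  rwa [Category.id_comp] at this

/-- An algebraic space which is representable is isomorphic to some `h_D`. -/
theorem exists_iso_of_isRepresentable {X : Sp S} (h : X.obj.IsRepresentable) :
    ∃ D : Over S, Nonempty ((yon S).obj D ≅ X) := by
  obtain ⟨D, ⟨e⟩⟩ := h.has_representation
  exact ⟨D, ⟨isoOfRepresentableBy e⟩⟩

theorem exists_scheme_of_qf (H : LqfSch S) {X : Sp S} (hX : IsAlgSpace X) {T : Over S} (f : X ⟶ (yon S).obj T)
    (hf : IsSeparatedMor f) :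
    ∃ (D : Over S) (j : (yon S).obj D ⟶ X) (g : D ⟶ T), RepWith @IsOpenImmersion j ∧ j ≫ f = (yon S).map g ∧
      IsSeparated g.left ∧ LocallyQuasiFinite g.left ∧ LocallyOfFiniteType g.left ∧
      Set.range (Points.map j) = qfSet f := by
  have hO := isOpen_qfSet f
  set Q := K610.Sub.openPred (qfSet f) with hQ
  have hι : RepWith @IsOpenImmersion Q.ι := K610.Sub.repWith_openPred hO
  have hr : Set.range (Points.map Q.ι) = qfSet f := K610.Sub.range_openPred _
  have hQA : IsAlgSpace Q.sub := K610.Sub.isAlgSpace_of_mono hι.1 hX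
  have hsep : IsSeparatedMor (Q.ι ≫ f) := separated_comp (separated_of_open hι) hf
  have hloc : LocP (@LocallyQuasiFinite ⊓ @LocallyOfFiniteType) (Q.ι ≫ f) := by
    refine K597.locP_of_local K597.etLoc_lqf _ fun U' a' ha' x => ?_
    have hx : Points.ofPt (a' ≫ Q.ι) x ∈ qfSet f := by
      rw [← hr]
      exact ⟨Points.ofPt a' x, rfl⟩
    obtain ⟨W, a, g, w, ha, h1, h2, h3, h4⟩ := hx
    have hrg : Set.range (Points.ofPt a) ⊆ Set.range (Points.map Q.ι) := by
      rw [hr]
      rintro _ ⟨w', rfl⟩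
      exact ⟨W, a, g, w', ha, h1, h2, h3, rfl⟩
    obtain ⟨b, hb⟩ := K610.Factor.exists_lift_open hι a hrg
    have hbe : RepWith @Etale b := K610.OpenImm.repWith_of_comp_mono (j := Q.ι) (by rw [hb]; exact ha)
    obtain ⟨R, p, q, sq, hq⟩ := K597.exists_sq2 hbe a'
    have hp : Etale p.left := K597.repWith_prop' ha' sq
    have hx' : x ∈ Set.range q.left := by
      have : Points.ofPt a' x = Points.ofPt b w := by
        have hm : Function.Injective (Points.map Q.ι) := (K610.OpenImm.isEmbedding_points hX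
          (imm_of_open hι)).1.injective
        apply hm
        rw [← K610.Base.ofPt_comp, ← K610.Base.ofPt_comp, hb, h4]
      obtain ⟨v, -, hv⟩ := K610.Base.exists_of_isPullback_yon sq (Points.ofPt ((yon S).map (𝟙 W)) w) x (by
        rw [← K610.Base.ofPt_comp, this]; simp)
      exact ⟨v, hv⟩
    exact ⟨W, T, R, b, 𝟙 _, g, p, q, repWith_id _ _, by rw [← Category.assoc, hb, h1, Category.comp_id],
      ⟨h2, h3⟩, sq.w, hp, hq, hx'⟩
  obtain ⟨D, ⟨e⟩⟩ := exists_iso_of_isRepresentable (H T ⟨Q.sub, hQA⟩ ⟨Q.ι ≫ f⟩ hloc hsep)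
  obtain ⟨g, hg⟩ := (yon S).map_surjective (e.hom ≫ Q.ι ≫ f)
  have hgl : LocP (@LocallyQuasiFinite ⊓ @LocallyOfFiniteType) ((yon S).map g) := by
    rw [hg]
    exact K597.locP_precomp (etale_of_open (open_of_iso e)) hloc
  have hgs : IsSeparatedMor ((yon S).map g) := by
    rw [hg]
    exact separated_comp (separated_of_open (open_of_iso e)) hsep
  have ho : RepWith @IsOpenImmersion (e.hom ≫ Q.ι) := MorphismProperty.RespectsIso.precomp _ _ _ hι
  refine ⟨D, e.hom ≫ Q.ι, g, ho, ?_, ?_, ?_, ?_, ?_⟩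
  · rw [Category.assoc, hg]
  · exact (isSeparatedMor_yon_map_iff g).1 hgs
  · exact (locP_yon_map hgl).1
  · exact (locP_yon_map hgl).2
  · rw [← hr]
    ext x
    constructor
    · rintro ⟨y, rfl⟩
      exact ⟨Points.map e.hom y, (Points.map_comp _ _ _).symm⟩
    · rintro ⟨y, rfl⟩
      refine ⟨Points.map e.inv y, ?_⟩
      rw [← Points.map_comp, e.inv_hom_id_assoc]

end K638.QfNhd
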