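import Groth.Agent.S0438
import Mathlib.RingTheory.TensorProduct.Quotient
import Mathlib.RingTheory.DiscreteValuationRing.Basic
import Mathlib.RingTheory.LocalRing.ResidueField.Defs

/-!
# Flat algebras over a discrete valuation ring with reduced special fibre are reduced near the special fibre
-/

set_option autoImplicit false
universe u

open CategoryTheory CategoryTheory.Limits AlgebraicGeometry Opposite
open scoped TensorProduct

namespace K638.RedDvr

theorem exists_one_add (R B : Type u) [CommRing R] [IsDomain R] [IsDiscreteValuationRing R] [CommRing B]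
    [Algebra R B] [Algebra.FiniteType R B] [Module.Flat R B]
    (hred : ((IsLocalRing.maximalIdeal R).map (algebraMap R B)).IsRadical) :
    ∃ e ∈ (IsLocalRing.maximalIdeal R).map (algebraMap R B), ∀ b : B, IsNilpotent b → (1 + e) * b = 0 := by
  have hN : IsNoetherianRing B := Algebra.FiniteType.isNoetherianRing R B
  have hfg : (nilradical B).FG := (isNoetherianRing_iff_ideal_fg B).mp hN _
  obtain ⟨s, hs⟩ := hfg
  have key : ∀ t : Finset B, (∀ b ∈ t, IsNilpotent b) →
      ∃ e ∈ (IsLocalRing.maximalIdeal R).map (algebraMap R B), ∀ b ∈ t, (1 + e) * b = 0 := by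
    classical
    intro t
    induction t using Finset.induction_on with
    | empty => exact fun _ => ⟨0, zero_mem _, by simp⟩
    | insert a t ha ih =>
      intro h
      obtain ⟨e, he, he'⟩ := ih fun b hb => h b (Finset.mem_insert_of_mem hb)
      obtain ⟨e₁, he₁, he₁'⟩ := Groth.Agent.S0438.key hred (h a (Finset.mem_insert_self _ _))
      refine ⟨e + e₁ + e * e₁, add_mem (add_mem he he₁) (Ideal.mul_mem_left _ _ he₁), fun b hb => ?_⟩
      rcases Finset.mem_insert.mp hb with rfl | hb
      · linear_combination (1 + e) * he₁'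
      · linear_combination (1 + e₁) * he' b hb
  obtain ⟨e, he, he'⟩ := key s fun b hb => by
    rw [← mem_nilradical, ← hs]
    exact Submodule.subset_span hb
  refine ⟨e, he, fun b hb => ?_⟩
  rw [← mem_nilradical, ← hs] at hb
  refine Submodule.span_induction (p := fun b _ => (1 + e) * b = 0) he' (by simp) ?_ ?_ hb
  · intro x y _ _ hx hy
    rw [mul_add, hx, hy, add_zero]
  · intro a x _ hx
    rw [smul_eq_mul, mul_left_comm, hx, mul_zero]

theorem isRadical_of_isReduced_tensor (R B : Type u) [CommRing R] [CommRing B] [Algebra R B] (I : Ideal R)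
    (h : _root_.IsReduced (B ⊗[R] (R ⧸ I))) : (I.map (algebraMap R B)).IsRadical := by
  rw [Ideal.isRadical_iff_quotient_reduced]
  exact (isReduced_of_injective (Algebra.TensorProduct.quotIdealMapEquivTensorQuot B I).toRingHom
    (Algebra.TensorProduct.quotIdealMapEquivTensorQuot B I).injective)

theorem exists_reduced_nhd {R : Type u} [CommRing R] [IsDomain R] [IsDiscreteValuationRing R] {U : Scheme.{u}}
    (f : U ⟶ Spec (CommRingCat.of R)) [Flat f] [LocallyOfFiniteType f]
    (hred : IsReduced (pullback f (Spec.map (CommRingCat.ofHom (IsLocalRing.residue R))))) (u : U)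
    (hu : f u = IsLocalRing.closedPoint R) :
    ∃ (Z : Scheme.{u}) (g : Z ⟶ U), IsOpenImmersion g ∧ u ∈ Set.range g ∧ IsReduced Z := by
  have hcov := U.affineOpenCover.covers u
  obtain ⟨B, g, hg, q, rfl⟩ : ∃ (B : CommRingCat.{u}) (g : Spec B ⟶ U) (_ : IsOpenImmersion g) (q : Spec B), g q = u :=
    ⟨_, U.affineOpenCover.f (U.affineOpenCover.idx u), inferInstance, hcov⟩
  obtain ⟨φ, hφ⟩ := Spec.map_surjective (g ≫ f)
  have hflat : φ.hom.Flat := by
    rw [← HasRingHomProperty.Spec_iff (P := @Flat), hφ]
    infer_instance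
  have hft : φ.hom.FiniteType := by
    rw [← HasRingHomProperty.Spec_iff (P := @LocallyOfFiniteType), hφ]
    infer_instance
  algebraize [φ.hom]
  have hredB : IsReduced (pullback (g ≫ f) (Spec.map (CommRingCat.ofHom (IsLocalRing.residue R)))) := by
    have e := pullbackRightPullbackFstIso f (Spec.map (CommRingCat.ofHom (IsLocalRing.residue R))) g
    have h1 : IsReduced (pullback g (pullback.fst f (Spec.map (CommRingCat.ofHom (IsLocalRing.residue R))))) :=
      isReduced_of_isOpenImmersion (pullback.snd _ _)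
    exact isReduced_of_isOpenImmersion e.inv
  rw [← hφ] at hredB
  have hredB' : _root_.IsReduced (B ⊗[R] (R ⧸ IsLocalRing.maximalIdeal R)) := by
    have e : pullback (Spec.map φ) (Spec.map (CommRingCat.ofHom (IsLocalRing.residue R))) ≅
      Spec (CommRingCat.of (B ⊗[R] (R ⧸ IsLocalRing.maximalIdeal R))) :=
      pullbackSpecIso R B (R ⧸ IsLocalRing.maximalIdeal R)
    have : IsReduced (Spec (CommRingCat.of (B ⊗[R] (R ⧸ IsLocalRing.maximalIdeal R)))) :=
      isReduced_of_isOpenImmersion e.inv
    exact (affine_isReduced_iff _).mp this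
  have hrad := isRadical_of_isReduced_tensor R B (IsLocalRing.maximalIdeal R) hredB'
  have hfq : Spec.map φ q = IsLocalRing.closedPoint R := by
    rw [hφ]; exact hu
  have hq : (IsLocalRing.maximalIdeal R).map (algebraMap R B) ≤ q.asIdeal := by
    rw [Ideal.map_le_iff_le_comap]
    exact (congrArg PrimeSpectrum.asIdeal hfq).ge
  obtain ⟨e, he, he'⟩ := exists_one_add R B hrad
  have hmem : 1 + e ∉ q.asIdeal := fun h => q.2.ne_top <| by
    rw [Ideal.eq_top_iff_one]
    have := q.asIdeal.sub_mem h (hq he)
    rwa [add_sub_cancel_right] at this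
  have hZ : _root_.IsReduced (Localization.Away (1 + e)) := by
    refine ⟨fun x hx => ?_⟩
    obtain ⟨b, t, rfl⟩ := IsLocalization.exists_mk'_eq (Submonoid.powers (1 + e)) x
    obtain ⟨n, hn⟩ := hx
    rw [← IsLocalization.mk'_pow, IsLocalization.mk'_eq_zero_iff] at hn
    obtain ⟨⟨m, k, rfl⟩, hm⟩ := hn
    rw [IsLocalization.mk'_eq_zero_iff]
    have hnil : IsNilpotent ((1 + e) ^ k * b) := by
      refine ⟨n + 1, ?_⟩
      rw [mul_pow, pow_succ b, ← mul_assoc, pow_succ ((1 + e) ^ k)]
      linear_combination (((1 + e) ^ k) ^ n * b) * hm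
    refine ⟨⟨(1 + e) ^ (k + 1), k + 1, rfl⟩, ?_⟩
    change (1 + e) ^ (k + 1) * b = 0
    rw [pow_succ', mul_assoc]
    exact he' _ hnil
  refine ⟨Spec (CommRingCat.of (Localization.Away (1 + e))),
    Spec.map (CommRingCat.ofHom (algebraMap B (Localization.Away (1 + e)))) ≫ g, inferInstance, ?_, ?_⟩
  · have hy : q ∈ Set.range (PrimeSpectrum.comap (algebraMap B (Localization.Away (1 + e)))) := by
      rw [PrimeSpectrum.localization_away_comap_range _ (1 + e)]
      exact hmem
    obtain ⟨y, hy⟩ := hy
    exact ⟨y, (Scheme.Hom.comp_apply _ _ _).trans (congrArg g hy)⟩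
  · exact (affine_isReduced_iff _).mpr hZ

end K638.RedDvr
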