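import Groth.Agent.S1482
import Mathlib.AlgebraicGeometry.ZariskisMainTheorem

/-!
# Splitting a finite set of points of a separated quasi-finite morphism, etale locally on the base
-/

set_option autoImplicit false
universe u
open CategoryTheory CategoryTheory.Limits AlgebraicGeometry TopologicalSpace

namespace K638.SplitSch

theorem isFinite_sup {P U : Scheme.{u}} (q : P ⟶ U) [IsSeparated q] [LocallyOfFiniteType q] [LocallyQuasiFinite q]
    (V W : P.Opens) (hV : IsFinite (V.ι ≫ q)) (hW : IsFinite (W.ι ≫ q)) : IsFinite ((V ⊔ W).ι ≫ q) := by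
  let a : V.toScheme ⟶ (V ⊔ W).toScheme := P.homOfLE le_sup_left
  let b : W.toScheme ⟶ (V ⊔ W).toScheme := P.homOfLE le_sup_right
  have h1 : coprod.desc a b ≫ (V ⊔ W).ι ≫ q = coprod.desc (V.ι ≫ q) (W.ι ≫ q) := by
    apply coprod.hom_ext
    · rw [coprod.inl_desc_assoc, coprod.inl_desc]
      simp [a]
    · rw [coprod.inr_desc_assoc, coprod.inr_desc]
      simp [b]
  have h2 : UniversallyClosed (coprod.desc a b ≫ (V ⊔ W).ι ≫ q) := by
    rw [h1]
    infer_instance
  have h3 : Surjective (coprod.desc a b) := by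
    constructor
    rintro ⟨x, hx⟩
    rcases hx with hx | hx
    · refine ⟨(coprod.inl : V.toScheme ⟶ _) ⟨x, hx⟩, ?_⟩
      rw [← Scheme.Hom.comp_apply, coprod.inl_desc]
      apply (V ⊔ W).ι.isOpenEmbedding.injective
      rw [← Scheme.Hom.comp_apply]
      simp [a]
    · refine ⟨(coprod.inr : W.toScheme ⟶ _) ⟨x, hx⟩, ?_⟩
      rw [← Scheme.Hom.comp_apply, coprod.inr_desc]
      apply (V ⊔ W).ι.isOpenEmbedding.injective
      rw [← Scheme.Hom.comp_apply]
      simp [b]
  have h4 : UniversallyClosed ((V ⊔ W).ι ≫ q) := UniversallyClosed.of_comp_surjective (coprod.desc a b) _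
  have : IsProper ((V ⊔ W).ι ≫ q) := {}
  exact IsFinite.of_isProper_of_locallyQuasiFinite _

theorem isFinite_bot {P U : Scheme.{u}} (q : P ⟶ U) : IsFinite ((⊥ : P.Opens).ι ≫ q) := by
  have : IsEmpty (⊥ : P.Opens).toScheme := ⟨fun x => x.2⟩
  have : IsClosedImmersion ((⊥ : P.Opens).ι ≫ q) := inferInstance
  infer_instance

theorem isFinite_biSup {P U : Scheme.{u}} (q : P ⟶ U) [IsSeparated q] [LocallyOfFiniteType q] [LocallyQuasiFinite q]
    {ι : Type*} [Finite ι] (V : ι → P.Opens) (hV : ∀ i, IsFinite ((V i).ι ≫ q)) : IsFinite ((⨆ i, V i).ι ≫ q) := by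
  have := Fintype.ofFinite ι
  rw [← Finset.sup_univ_eq_iSup]
  classical
  induction (Finset.univ : Finset ι) using Finset.induction_on with
  | empty => exact isFinite_bot q
  | insert a s ha ih =>
    rw [Finset.sup_insert]
    exact isFinite_sup q _ _ (hV a) ih

/-- Splitting off a finite set of points. -/
theorem exists_split {D Y : Scheme.{u}} (f : D ⟶ Y) [LocallyOfFiniteType f] [IsSeparated f] [LocallyQuasiFinite f]
    (y : Y) (E : Set D) (hfin : E.Finite) (hE : ∀ d ∈ E, f d = y) :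
    ∃ (U : Scheme.{u}) (g : U ⟶ Y) (u : U), Etale g ∧ g u = y ∧ ∃ V : (pullback f g).Opens,
      IsFinite (V.ι ≫ pullback.snd f g) ∧ ∀ w : ↑(pullback f g), pullback.snd f g w = u →
        (w ∈ V ↔ pullback.fst f g w ∈ E) := by
  have := hfin.to_subtype
  obtain ⟨n, ⟨e⟩⟩ := Finite.exists_equiv_fin E
  obtain ⟨U, g, u, hg, hu, J, hJ, V, v, h1, -, h3⟩ := Groth.Agent.S1482.result f y (ι := Fin n)
    (fun i => (e.symm i).1) (fun i j h => e.symm.injective (Subtype.ext h)) (fun i => hE _ (e.symm i).2)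
    (fun i => f.quasiFiniteAt _)
  have := hJ
  refine ⟨U, g, u, hg, hu, ⨆ p : (Σ i, J i), V p.1 p.2, isFinite_biSup _ _ fun p => (h1 p.1 p.2).2.1, ?_⟩
  intro w hw
  constructor
  · intro h
    obtain ⟨⟨i, j⟩, hij⟩ := Opens.mem_iSup.1 h
    have := (h1 i j).2.2.2.1 w hij hw
    rw [this, (h1 i j).2.2.2.2.2]
    exact (e.symm i).2
  · intro h
    obtain ⟨j, hj⟩ := h3 w (e ⟨_, h⟩) hw (by simp)
    rw [hj]
    exact Opens.mem_iSup.2 ⟨⟨_, j⟩, (h1 _ j).1⟩

end K638.SplitSch
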