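import Groth.Agent.AlgSp.K638.QfNhd
import Groth.Agent.AlgSp.K638.SplitSch
import Groth.Agent.AlgSp.K613.Chart
import Groth.Agent.AlgSp.K613.Diag

/-!
# Etale splitting of a separated morphism of algebraic spaces at quasi-finite points
-/

set_option autoImplicit false
universe u
open CategoryTheory CategoryTheory.Limits AlgebraicGeometry Opposite Topology

namespace K638.SplitCore

open AlgSp K638.QfNhd

variable {S : Scheme.{u}}

theorem isPullback_over {P X Y Z : Over S} {a : P ⟶ X} {b : P ⟶ Y} {f : X ⟶ Z} {g : Y ⟶ Z}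
    (h : IsPullback a.left b.left f.left g.left) : IsPullback a b f g :=
  IsPullback.of_map (Over.forget S) (Over.OverMorphism.ext h.w) h

/-- A point of `X` over `xs` in the base change `X₀ = X ×_Y Y₀` is a quasi-finite point. -/
theorem mem_qfSet {X Y : Sp S} {f : X ⟶ Y} {x : Points X}
    (hx : HasAtMor (fun U _ h u => ∃ W : U.Opens, u ∈ W ∧ LocallyQuasiFinite (W.ι ≫ h) ∧
      LocallyOfFiniteType (W.ι ≫ h)) f x)
    {X₀ : Sp S} {Y₀ : Over S} {p₀ : X₀ ⟶ X} {f₀ : X₀ ⟶ (yon S).obj Y₀} {b : (yon S).obj Y₀ ⟶ Y}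
    (hY : IsAlgSpace Y)
    (sq : IsPullback p₀ f₀ f b) (hb : RepWith @Etale b) (x₀ : Points X₀) (h₀ : Points.map p₀ x₀ = x) :
    x₀ ∈ qfSet f₀ := by
  obtain ⟨U₁, V₁, a₁, b₁, h₁, u₁, ha₁, hb₁, comm, hu₁, W₁, hW₁, hq, hl⟩ := hx
  -- the open part of the chart
  let W : Over S := Over.mk (W₁.ι ≫ U₁.hom)
  let i : W ⟶ U₁ := Over.homMk W₁.ι rfl
  let a : (yon S).obj W ⟶ X := (yon S).map i ≫ a₁
  have ha : RepWith @Etale a := K597.etale_comp (K597.etale_map i (inferInstanceAs (Etale W₁.ι))) ha₁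
  let w : W.left := (⟨u₁, hW₁⟩ : W₁)
  have haw : Points.ofPt a w = x := by
    rw [K610.Base.ofPt_map_comp]
    exact hu₁
  -- its base change to `X₀`
  have hp₀ : RepWith @Etale p₀ := MorphismProperty.of_isPullback (P := RepWith @Etale) sq.flip hb
  obtain ⟨W', a', r, sqW, hr⟩ := K597.exists_sq hp₀ a
  have ha' : RepWith @Etale a' := MorphismProperty.of_isPullback (P := RepWith @Etale) sqW.flip ha
  obtain ⟨w', hw'1, hw'2⟩ := K610.Base.exists_of_isPullback_yon sqW x₀ w (by rw [h₀, haw])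
  obtain ⟨g, hg⟩ := (yon S).map_surjective (a' ≫ f₀)
  have hLP : LocP (@LocallyQuasiFinite ⊓ @LocallyOfFiniteType) (a ≫ f) := by
    refine K597.locP_of_chart K597.etLoc_lqf (a ≫ f) (𝟙 _) b₁ (i ≫ h₁) (repWith_id _ _) (repWith_id _ _) hb₁ ?_ ?_
    · rw [Category.id_comp, Functor.map_comp, Category.assoc, Category.assoc, comm]
    · exact ⟨hq, hl⟩
  have hLP' : LocP (@LocallyQuasiFinite ⊓ @LocallyOfFiniteType) ((yon S).map g) := by
    have sq2 : IsPullback ((yon S).map r) ((yon S).map g) (a ≫ f) b := by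
      rw [hg]
      exact sqW.flip.paste_vert sq
    exact K597.locP_bc K597.etLoc_lqf sq2 (IsAlgSpace.yon_obj W).hasAtlas hY.hasAtlas
      (IsAlgSpace.yon_obj Y₀).hasAtlas hLP
  exact ⟨W', a', g, w', ha', hg.symm, (locP_yon_map hLP').1, (locP_yon_map hLP').2, hw'1⟩

theorem isFiniteMor_of_repWith {F G : Sp S} {f : F ⟶ G} (hf : RepWith @IsFinite f) : IsFiniteMor f := by
  intro Z hZ g
  obtain ⟨W, fst, i, sq, hi⟩ := K597.exists_sq hf g
  have : IsFinite i.left := hi
  exact ⟨W, i, fst, sq, isAffine_of_isAffineHom i.left, hi⟩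

theorem repWith_isClosedImmersion_of_finite_mono {F G : Sp S} {f : F ⟶ G} (hf : RepWith @IsFinite f)
    (ho : RepWith @IsOpenImmersion f) : RepWith @IsClosedImmersion f := by
  refine K597.repWith_mono (P := @IsFinite ⊓ @IsOpenImmersion) (fun A B h hh => ?_)
    (K597.repWith_inf_iff.2 ⟨hf, ho⟩)
  have h1 : IsFinite h := hh.1
  have h2 : IsOpenImmersion h := hh.2
  exact (IsClosedImmersion.iff_isFinite_and_mono h).2 ⟨h1, inferInstance⟩

/-- **Etale splitting**: a finite set `E₀` of quasi-finite points of `X₀ = X ×_Y Y₀` over a point `y₀` of an etale chart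
`Y₀` is split off after an etale base change `g : U ⟶ Y₀`. -/
theorem exists_split_points (H : LqfSch S) {X Y : Sp S} (hX : IsAlgSpace X) (hY : IsAlgSpace Y) {f : X ⟶ Y}
    (hf : IsSeparatedMor f) {Y₀ : Over S} {b : (yon S).obj Y₀ ⟶ Y} (y₀ : Y₀.left)
    (E₀ : Set (Points (pullback f b))) (hfin : E₀.Finite) (hq : E₀ ⊆ qfSet (pullback.snd f b))
    (hE₀ : ∀ x₀ ∈ E₀, Points.map (pullback.snd f b) x₀ = Points.ofScheme Y₀ y₀) :
    ∃ (U : Over S) (g : U ⟶ Y₀) (u : U.left), Etale g.left ∧ g.left u = y₀ ∧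
      ∀ (P : Sp S) (prX : P ⟶ X) (prU : P ⟶ (yon S).obj U) (k : P ⟶ pullback f b),
        IsPullback prX prU f ((yon S).map g ≫ b) → k ≫ pullback.fst f b = prX →
        k ≫ pullback.snd f b = prU ≫ (yon S).map g →
        ∃ (V : Over S) (jV : (yon S).obj V ⟶ P), RepWith @IsOpenImmersion jV ∧ RepWith @IsClosedImmersion jV ∧
          IsFiniteMor (jV ≫ prU) ∧
          ∀ w : Points P, Points.map prU w = Points.ofScheme U u →
            (w ∈ Set.range (Points.map jV) ↔ Points.map k w ∈ E₀) := by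
  let p₀ : pullback f b ⟶ X := pullback.fst f b
  let f₀ : pullback f b ⟶ (yon S).obj Y₀ := pullback.snd f b
  have sq : IsPullback p₀ f₀ f b := IsPullback.of_hasPullback f b
  have hX₀A : IsAlgSpace (pullback f b) := K613.Chart.isAlgSpace_pullback hX (IsAlgSpace.yon_obj Y₀) hY f b
  have hf₀ : IsSeparatedMor f₀ := separated_bc sq hf
  obtain ⟨D, j, gD, hj, hjf, hDs, hDq, hDl, hDr⟩ := exists_scheme_of_qf H hX₀A f₀ hf₀
  have hjinj : Function.Injective (Points.map j) :=
    (K610.OpenImm.isEmbedding_points hX₀A (imm_of_open hj)).1.injective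
  let E : Set D.left := {d | Points.ofPt j d ∈ E₀}
  have hEy : ∀ d ∈ E, gD.left d = y₀ := by
    intro d hd
    have := hE₀ _ hd
    rw [Points.ofPt_eq_map_ofScheme, ← Points.map_comp, hjf, K609.Points.map_yon_map_ofScheme] at this
    exact K609.Points.ofScheme_injective _ this
  have hEfin : E.Finite := by
    refine Set.Finite.of_finite_image (f := Points.ofPt j) (hfin.subset ?_) ?_
    · rintro _ ⟨d, h1, rfl⟩
      exact h1
    · intro d _ d' _ h
      apply K609.Points.ofScheme_injective D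
      apply hjinj
      rw [← Points.ofPt_eq_map_ofScheme, ← Points.ofPt_eq_map_ofScheme]
      exact h
  obtain ⟨U, g, u, hg, hu, V, hVf, hV⟩ := K638.SplitSch.exists_split gD.left y₀ E hEfin hEy
  let U' : Over S := Over.mk (g ≫ Y₀.hom)
  let g' : U' ⟶ Y₀ := Over.homMk g rfl
  let DU : Over S := Over.mk (pullback.fst gD.left g ≫ D.hom)
  let q₁ : DU ⟶ D := Over.homMk (pullback.fst gD.left g) rfl
  let q₂ : DU ⟶ U' := Over.homMk (pullback.snd gD.left g) (by
    change pullback.snd gD.left g ≫ g ≫ Y₀.hom = pullback.fst gD.left g ≫ D.hom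
    rw [← Category.assoc, ← pullback.condition, Category.assoc, Over.w])
  have sqD : IsPullback q₁ q₂ gD g' := isPullback_over (IsPullback.of_hasPullback gD.left g)
  let V' : Over S := Over.mk (V.ι ≫ DU.hom)
  let iV : V' ⟶ DU := Over.homMk V.ι rfl
  refine ⟨U', g', u, hg, hu, ?_⟩
  intro P prX prU k sqP hk1 hk2
  have sqk : IsPullback k prU f₀ ((yon S).map g') := by
    refine IsPullback.of_right (h₁₂ := p₀) (v₁₃ := f) (h₂₂ := b) ?_ hk2 sq
    rw [hk1]
    exact sqP
  -- `DU ⟶ P`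
  have sqD' : IsPullback ((yon S).map q₁) ((yon S).map q₂) (j ≫ f₀) ((yon S).map g') := by
    rw [hjf]
    exact sqD.map (yon S)
  let c : (yon S).obj DU ⟶ P := sqk.lift ((yon S).map q₁ ≫ j) ((yon S).map q₂) (by
    rw [Category.assoc]; exact sqD'.w)
  have hc1 : c ≫ k = (yon S).map q₁ ≫ j := sqk.lift_fst _ _ _
  have hc2 : c ≫ prU = (yon S).map q₂ := sqk.lift_snd _ _ _
  have sqc : IsPullback c ((yon S).map q₁) k j := by
    refine (IsPullback.of_bot (v₂₁ := prU) (v₂₂ := f₀) (h₃₁ := (yon S).map g') ?_ hc1.symm sqk).flip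
    rw [hc2]
    exact sqD'
  have hco : RepWith @IsOpenImmersion c := MorphismProperty.of_isPullback (P := RepWith @IsOpenImmersion) sqc.flip hj
  have hjVo : RepWith @IsOpenImmersion ((yon S).map iV ≫ c) := by
    refine K597.repWith_comp _ ((repWith_yon_map_iff _ _).2 ?_) hco
    exact inferInstanceAs (IsOpenImmersion V.ι)
  have hVU : ((yon S).map iV ≫ c) ≫ prU = (yon S).map (iV ≫ q₂) := by
    rw [Category.assoc, hc2, Functor.map_comp]
  have hVUf : RepWith @IsFinite (((yon S).map iV ≫ c) ≫ prU) := by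
    rw [hVU]
    exact (repWith_yon_map_iff _ _).2 hVf
  have hjVf : RepWith @IsFinite ((yon S).map iV ≫ c) := by
    refine K613.Diag.repWith_of_comp hVUf ?_
    have h1 : IsSeparatedMor prU := separated_bc sqP hf
    exact K597.repWith_mono (fun _ _ f hf => by
      have : IsClosedImmersion f := hf
      exact inferInstanceAs (IsFinite f)) h1
  refine ⟨V', (yon S).map iV ≫ c, hjVo, repWith_isClosedImmersion_of_finite_mono hjVf hjVo,
    isFiniteMor_of_repWith hVUf, fun w hw => ?_⟩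
  -- the image in `X₀` and in `U` of a point of `DU`
  have key1 : ∀ z : DU.left, Points.map k (Points.map c (Points.ofScheme DU z)) =
      Points.ofPt j (q₁.left z) := fun z => by
    rw [← Points.map_comp, hc1, ← Points.ofPt_eq_map_ofScheme, K610.Base.ofPt_map_comp]
  have key2 : ∀ z : DU.left, Points.map prU (Points.map c (Points.ofScheme DU z)) =
      Points.ofScheme U' (q₂.left z) := fun z => by
    rw [← Points.map_comp, hc2, K609.Points.map_yon_map_ofScheme]
  constructor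
  · rintro ⟨v, rfl⟩
    obtain ⟨v, rfl⟩ := K609.Points.ofScheme_surjective V' v
    have h1 : Points.map ((yon S).map iV ≫ c) (Points.ofScheme V' v) =
        Points.map c (Points.ofScheme DU (iV.left v)) := by
      rw [Points.map_comp, K609.Points.map_yon_map_ofScheme]
    rw [h1] at hw ⊢
    rw [key2] at hw
    rw [key1]
    have h2 := K609.Points.ofScheme_injective U' hw
    exact (hV (iV.left v) h2).1 v.2
  · intro hwx
    have h1 : Points.map k w ∈ qfSet f₀ := hq hwx
    rw [← hDr] at h1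
    obtain ⟨d, hd⟩ := h1
    obtain ⟨z, hz1, hz2⟩ := K610.Base.exists_of_isPullback sqc w d hd.symm
    obtain ⟨z, rfl⟩ := K609.Points.ofScheme_surjective DU z
    rw [← hz1, key2] at hw
    have h2 := K609.Points.ofScheme_injective U' hw
    have h3 : q₁.left z ∈ E := by
      change Points.ofPt j (q₁.left z) ∈ E₀
      rw [← key1, hz1]
      exact hwx
    have h4 : z ∈ V := (hV z h2).2 h3
    refine ⟨Points.ofScheme V' ⟨z, h4⟩, ?_⟩
    rw [Points.map_comp, K609.Points.map_yon_map_ofScheme, ← hz1]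
    rfl

/-- **Etale splitting**, in terms of a chart `b : h_{Y₀} ⟶ Y` and a point `y₀`. -/
theorem exists_split (H : LqfSch S) {X Y : Sp S} (hX : IsAlgSpace X) (hY : IsAlgSpace Y) {f : X ⟶ Y}
    (hf : IsSeparatedMor f) (xs : Set (Points X))
    (hxs : ∀ x ∈ xs, HasAtMor (fun U _ h u => ∃ W : U.Opens, u ∈ W ∧ LocallyQuasiFinite (W.ι ≫ h) ∧
      LocallyOfFiniteType (W.ι ≫ h)) f x)
    {Y₀ : Over S} {b : (yon S).obj Y₀ ⟶ Y} (hb : RepWith @Etale b) (y₀ : Y₀.left)
    (hfin : {x₀ : Points (pullback f b) | Points.map (pullback.fst f b) x₀ ∈ xs ∧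
      Points.map (pullback.snd f b) x₀ = Points.ofScheme Y₀ y₀}.Finite) :
    ∃ (U : Over S) (g : U ⟶ Y₀) (u : U.left), Etale g.left ∧ g.left u = y₀ ∧
      ∀ (P : Sp S) (prX : P ⟶ X) (prU : P ⟶ (yon S).obj U), IsPullback prX prU f ((yon S).map g ≫ b) →
        ∃ (V : Over S) (jV : (yon S).obj V ⟶ P), RepWith @IsOpenImmersion jV ∧ RepWith @IsClosedImmersion jV ∧
          IsFiniteMor (jV ≫ prU) ∧
          ∀ w : Points P, Points.map prU w = Points.ofScheme U u →
            (w ∈ Set.range (Points.map jV) ↔ Points.map prX w ∈ xs) := by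
  have sq : IsPullback (pullback.fst f b) (pullback.snd f b) f b := IsPullback.of_hasPullback f b
  obtain ⟨U, g, u, hg, hu, h⟩ := exists_split_points H hX hY hf y₀ _ hfin
    (fun x₀ hx₀ => mem_qfSet (hxs _ hx₀.1) hY sq hb _ rfl) (fun x₀ hx₀ => hx₀.2)
  refine ⟨U, g, u, hg, hu, fun P prX prU sqP => ?_⟩
  obtain ⟨V, jV, h1, h2, h3, h4⟩ := h P prX prU
    (sq.lift prX (prU ≫ (yon S).map g) (by rw [sqP.w, Category.assoc])) sqP (sq.lift_fst _ _ _) (sq.lift_snd _ _ _)
  refine ⟨V, jV, h1, h2, h3, fun w hw => ?_⟩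
  rw [h4 w hw]
  change _ ∧ _ ↔ _
  rw [← Points.map_comp, sq.lift_fst, ← Points.map_comp, sq.lift_snd, Points.map_comp, hw,
    K609.Points.map_yon_map_ofScheme, hu]
  exact ⟨fun h => h.1, fun h => ⟨h, rfl⟩⟩

end K638.SplitCore
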