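import Groth.Agent.AlgSp.K638.SplitCore
import Groth.Agent.AlgSp.K618.FieldFib
import Groth.Agent.AlgSp.K596.QC
import Mathlib.AlgebraicGeometry.Noetherian
import Mathlib.AlgebraicGeometry.Fiber

/-!
# Finiteness of the set of points to be split off
-/

set_option autoImplicit false
universe u
open CategoryTheory CategoryTheory.Limits AlgebraicGeometry TopologicalSpace Topology Opposite

namespace K638.SplitFin

open AlgSp K638.QfNhd

theorem noetherianSpace_fiber {W Y : Scheme.{u}} (g : W ⟶ Y) [LocallyOfFiniteType g] [QuasiCompact g] (y : Y) :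
    NoetherianSpace (g.fiber y) := by
  have : LocallyOfFiniteType (g.fiberToSpecResidueField y) := inferInstanceAs (LocallyOfFiniteType (pullback.snd _ _))
  have : IsLocallyNoetherian (g.fiber y) := LocallyOfFiniteType.isLocallyNoetherian (g.fiberToSpecResidueField y)
  have : IsNoetherian (g.fiber y) := {}
  infer_instance

theorem finite_fibre_of_open {W O Y : Scheme.{u}} (i : O ⟶ W) [IsOpenImmersion i] (g : W ⟶ Y)
    [LocallyOfFiniteType g] [QuasiCompact g] [LocallyQuasiFinite (i ≫ g)] (y : Y) :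
    ((i ≫ g) ⁻¹' {y}).Finite := by
  have h1 : _root_.IsDiscrete ((i ≫ g) ⁻¹' {y}) := (i ≫ g).isDiscrete_preimage_singleton y
  have := noetherianSpace_fiber g y
  have h2 : NoetherianSpace (g ⁻¹' {y}) := (g.fiberHomeo y).symm.isInducing.noetherianSpace
  let φ : ((i ≫ g) ⁻¹' {y}) → (g ⁻¹' {y}) := fun o => ⟨i o.1, by
    have : (i ≫ g) o.1 = y := o.2
    rwa [Scheme.Hom.comp_apply] at this⟩
  have hφ : IsInducing φ := by
    have h3 : IsInducing (Subtype.val ∘ φ) := i.isOpenEmbedding.isInducing.comp IsInducing.subtypeVal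
    refine IsInducing.of_comp ?_ continuous_subtype_val h3
    exact (i.continuous.comp continuous_subtype_val).subtype_mk _
  have h4 : NoetherianSpace ((i ≫ g) ⁻¹' {y}) := hφ.noetherianSpace
  have h5 : DiscreteTopology ((i ≫ g) ⁻¹' {y}) := h1.to_subtype
  have : Finite ((i ≫ g) ⁻¹' {y}) := finite_of_compact_of_discrete
  exact Set.toFinite _

variable {S : Scheme.{u}}

/-- Case (B): `Y` decent. -/
theorem finite_of_decent {X Y : Sp S} {f : X ⟶ Y} (hdec : IsDecent Y) (xs : Set (Points X)) (hxs : xs.Finite)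
    {Y₀ : Over S} {b : (yon S).obj Y₀ ⟶ Y} (hb : RepWith @Etale b) [CompactSpace Y₀.left] :
    {x₀ : Points (pullback f b) | Points.map (pullback.fst f b) x₀ ∈ xs}.Finite := by
  have key : ∀ x : Points X, {x₀ : Points (pullback f b) | Points.map (pullback.fst f b) x₀ = x}.Finite := by
    intro x
    induction x using Points.ind with
    | h q =>
      obtain ⟨p, hp, hm, hq⟩ := hdec (Points.map f (Points.mk q))
      obtain ⟨c, hc⟩ := K618.FieldFib.factors_of_mono p (q.map f) hm hq.1 (by rw [hp]; rfl)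
      have hqf : RepWith @QuasiCompact (q.map f).toHom := by
        rw [← hc]
        refine K597.repWith_comp _ ((repWith_yon_map_iff _ _).2 ?_) hq
        have h1 : IsAffine (q.map f).pt.left := inferInstanceAs (IsAffine (Spec _))
        have h2 : IsAffine p.pt.left := inferInstanceAs (IsAffine (Spec _))
        infer_instance
      obtain ⟨E, e, i, he, hi, sqE, -⟩ := K618.FieldFib.exists_fibre_scheme_etale (q.map f) hqf b hb
      have hEc : CompactSpace E.left := QuasiCompact.compactSpace_of_compactSpace i.left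
      have hfin : Finite E.left := K618.Sch.finite_of_etale_field (k := (q.map f).K) e.left
      rw [FieldPt.toHom_map] at sqE
      -- `E ⟶ X₀`
      let c' : (yon S).obj E ⟶ pullback f b := pullback.lift ((yon S).map e ≫ q.toHom) ((yon S).map i) (by
        rw [Category.assoc]; exact sqE.w)
      have hc'1 : c' ≫ pullback.fst f b = (yon S).map e ≫ q.toHom := pullback.lift_fst _ _ _
      have hc'2 : c' ≫ pullback.snd f b = (yon S).map i := pullback.lift_snd _ _ _
      have sq' : IsPullback ((yon S).map e) c' q.toHom (pullback.fst f b) := by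
        refine (IsPullback.of_right (h₁₂ := pullback.snd f b) (v₁₃ := b) (h₂₂ := f) ?_ hc'1
          (IsPullback.of_hasPullback f b).flip).flip
        rw [hc'2]
        exact sqE.flip
      refine (Set.finite_range (fun z : E.left => Points.ofPt c' z)).subset ?_
      intro x₀ hx₀
      obtain ⟨z, hz1, hz2⟩ := K610.Base.exists_of_isPullback sq'
        (Points.ofScheme _ (IsLocalRing.closedPoint q.K : Spec (CommRingCat.of q.K))) x₀
        (((Points.ofPt_eq_map_ofScheme q.toHom _).symm.trans (Points.ofPt_toHom q _)).trans (Eq.symm hx₀))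
      obtain ⟨z, rfl⟩ := K609.Points.ofScheme_surjective E z
      exact ⟨z, by rw [← hz2, ← Points.ofPt_eq_map_ofScheme]⟩
  have : {x₀ : Points (pullback f b) | Points.map (pullback.fst f b) x₀ ∈ xs} =
      ⋃ x ∈ xs, {x₀ : Points (pullback f b) | Points.map (pullback.fst f b) x₀ = x} := by
    ext x₀
    simp
  rw [this]
  exact hxs.biUnion fun x _ => key x

/-- Case (A): `f` quasi-compact. -/
theorem finite_of_quasiCompact (H : LqfSch S) {X Y : Sp S} (hX : IsAlgSpace X) (hY : IsAlgSpace Y) {f : X ⟶ Y}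
    (hf : IsSeparatedMor f) (hlft : LocP @LocallyOfFiniteType f) (hqc : IsQuasiCompactMor f)
    (xs : Set (Points X))
    (hxs : ∀ x ∈ xs, HasAtMor (fun U _ h u => ∃ W : U.Opens, u ∈ W ∧ LocallyQuasiFinite (W.ι ≫ h) ∧
      LocallyOfFiniteType (W.ι ≫ h)) f x)
    {Y₀ : Over S} {b : (yon S).obj Y₀ ⟶ Y} (hb : RepWith @Etale b) (y₀ : Y₀.left) [IsAffine Y₀.left] :
    {x₀ : Points (pullback f b) | Points.map (pullback.fst f b) x₀ ∈ xs ∧
      Points.map (pullback.snd f b) x₀ = Points.ofScheme Y₀ y₀}.Finite := by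
  have sq : IsPullback (pullback.fst f b) (pullback.snd f b) f b := .of_hasPullback f b
  set f₀ : pullback f b ⟶ (yon S).obj Y₀ := pullback.snd f b
  have hX₀A : IsAlgSpace (pullback f b) := K613.Chart.isAlgSpace_pullback hX (IsAlgSpace.yon_obj Y₀) hY f b
  obtain ⟨W, a, ha, hs, hWc⟩ := hqc (IsAlgSpace.yon_obj Y₀) (K596.QC.isQuasiCompactSp_yon Y₀) b _ _ sq
  obtain ⟨g, hg⟩ := (yon S).map_surjective (a ≫ f₀)
  have hl₀ : LocP @LocallyOfFiniteType f₀ :=
    K597.locP_bc K597.etLoc_lft sq hX.hasAtlas hY.hasAtlas (IsAlgSpace.yon_obj Y₀).hasAtlas hlft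
  have hlg : LocallyOfFiniteType g.left := hl₀ a (𝟙 _) g ha (repWith_id _ _) (by rw [Category.comp_id, hg])
  have hqg : QuasiCompact g.left := (quasiCompact_iff_compactSpace g.left).2 hWc
  obtain ⟨D, j, gD, hj, hjf, hDs, hDq, hDl, hDr⟩ := exists_scheme_of_qf H hX₀A f₀ (separated_bc sq hf)
  obtain ⟨O, p, i, sqO, hi⟩ := K597.exists_sq2 hj a
  have hp : Etale p.left := K597.repWith_prop' ha sqO
  have hps : Surjective p.left := K597.repWith_prop' hs sqO
  have hpg : i ≫ g = p ≫ gD := by
    apply (yon S).map_injective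
    rw [Functor.map_comp, Functor.map_comp, hg, ← hjf, ← Category.assoc, ← Category.assoc, sqO.w]
  have hop : IsOpenImmersion i.left := hi
  have hlq : LocallyQuasiFinite (i.left ≫ g.left) := by
    rw [← Over.comp_left, hpg, Over.comp_left]
    have := K597.locallyQuasiFinite_of_etale p.left
    infer_instance
  refine ((finite_fibre_of_open i.left g.left y₀).image (fun o => Points.ofPt j (p.left o))).subset ?_
  rintro x₀ ⟨h1, h2⟩
  have h3 : x₀ ∈ qfSet f₀ := K638.SplitCore.mem_qfSet (hxs _ h1) hY sq hb x₀ rfl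
  rw [← hDr] at h3
  obtain ⟨d, rfl⟩ := h3
  obtain ⟨d, rfl⟩ := K609.Points.ofScheme_surjective D d
  obtain ⟨o, ho⟩ := hps.surj d
  refine ⟨o, ?_, ?_⟩
  · change (i.left ≫ g.left) o = y₀
    rw [← Over.comp_left, hpg, Over.comp_left, Scheme.Hom.comp_apply, ho]
    rw [← Points.map_comp, hjf, K609.Points.map_yon_map_ofScheme] at h2
    exact K609.Points.ofScheme_injective _ h2
  · change Points.ofPt j (p.left o) = _
    rw [ho, Points.ofPt_eq_map_ofScheme]

end K638.SplitFin
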